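import Cfsg.Agent.InvChar.Coset.SuzOrder
import Cfsg.Agent.Lib.PcMult.Pts.Base
import Cfsg.Agent.Lib.PcMult.Pts.Check

/-!
The action of the Suzuki group on the cosets of a maximal subgroup and the points separating its elements.
-/

set_option autoImplicit false
set_option maxRecDepth 100000

namespace Cfsg.Agent.Lib.SuzMult

open Cfsg.Agent.CosetCert Cfsg.Agent.InvChar.Coset Cfsg.Agent.Lib.PcMult

/-- The action on the cosets. -/
noncomputable abbrev φ : Cfsg.Spor.Suz →* Equiv.Perm (Fin Suz.table.n) := Suz.data.hom Suz.checked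

theorem K_eq : Suz.table.C.K = 7 := by decide +kernel

theorem n_eq : Suz.table.n = 1782 := rfl

theorem gen_apply {i : ℕ} (hi : i < 7) (c : Fin Suz.table.n) :
    (φ (Suz.data.gen i) c : ℕ) = pat (nthNat Suz.table.P i) c := by
  rw [show φ (Suz.data.gen i) = tau Suz.checked i from Suz.data.hom_gen Suz.checked i,
    tau_apply Suz.checked (K_eq ▸ hi)]
  rfl

theorem reals_gen (i : ℕ) (hi : i < 7) : Pts.Reals φ (nthNat Suz.table.P i) :=
  ⟨Suz.data.gen i, gen_apply hi⟩

theorem real0 : Pts.Reals φ Suz.perm0 := reals_gen 0 (by norm_num)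

theorem real1 : Pts.Reals φ Suz.perm1 := reals_gen 1 (by norm_num)

theorem real2 : Pts.Reals φ Suz.perm2 := reals_gen 2 (by norm_num)

theorem real3 : Pts.Reals φ Suz.perm3 := reals_gen 3 (by norm_num)

theorem real4 : Pts.Reals φ Suz.perm4 := reals_gen 4 (by norm_num)

theorem real5 : Pts.Reals φ Suz.perm5 := reals_gen 5 (by norm_num)

theorem real6 : Pts.Reals φ Suz.perm6 := reals_gen 6 (by norm_num)

theorem realises : Realises φ.range Suz.table.P := by
  intro y hy
  obtain ⟨x, hx⟩ := reals_gen y hy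
  exact ⟨φ x, ⟨x, rfl⟩, hx⟩

theorem perm6_moves : (List.range 1782).any (fun c => !(pat Suz.perm6 c == c)) = true := by decide +kernel

theorem φ_injective : Function.Injective φ := by
  haveI := Suz.simple_and_card.1
  rcases IsSimpleGroup.eq_bot_or_eq_top_of_normal φ.ker inferInstance with h | h
  · exact (MonoidHom.ker_eq_bot_iff φ).mp h
  · exfalso
    have h1 : φ (Suz.data.gen 6) = 1 := MonoidHom.mem_ker.mp (h ▸ Subgroup.mem_top _)
    obtain ⟨c, hc, hne⟩ := List.any_eq_true.1 perm6_moves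
    rw [List.mem_range] at hc
    have h2 := gen_apply (i := 6) (by norm_num) ⟨c, hc⟩
    rw [h1, Equiv.Perm.one_apply] at h2
    have h3 : pat Suz.perm6 c = c := h2.symm
    simp [h3] at hne

theorem sep {x y : Cfsg.Spor.Suz} (h : ∀ c : Fin Suz.table.n, (c : ℕ) ∈ [0, 1, 2, 3, 4, 8, 14] → φ x c = φ y c) :
    x = y := by
  refine Pts.sep φ φ_injective realises Suz.levels_ok ?_ ?_ ?_ h
  · rw [Suz.simple_and_card.2, Suz.levels_prod]
  · rw [Suz.levels_prod]; norm_num
  · decide +kernel

end Cfsg.Agent.Lib.SuzMult
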