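import Mathlib
import Cfsg.Prelude.Def_KGroupFacts
import Cfsg.Prelude.Def_Spor_Suz
import Cfsg.Agent.InvChar.Coset.SuzOrder
import Cfsg.Agent.Lib.PcMult.Collect
import Cfsg.Agent.Lib.SuzMult.MatData

/-!
A sixfold stem extension of the presented Suzuki group: twelve-dimensional matrices over the field with seven
elements that satisfy the relators up to scalars.
-/

set_option autoImplicit false
set_option maxRecDepth 100000
set_option maxHeartbeats 1000000

namespace Cfsg.Agent.Lib.SuzMult

open Cfsg Cfsg.Agent.Lib.PcMult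
open scoped commutatorElement

local notation "M12" => Matrix (Fin 12) (Fin 12) (ZMod 7)
local notation "GL12" => Matrix.GeneralLinearGroup (Fin 12) (ZMod 7)

/-- An entry of a packed matrix. -/
def ent (N i j : ℕ) : ℕ := (N >>> (3 * (12 * i + j))) % 8

/-- The matrix of a packed number. -/
def mat (N : ℕ) : M12 := Matrix.of fun i j => ((ent N i.1 j.1 : ℕ) : ZMod 7)

/-- An entry of a product. -/
def dot (A B i j : ℕ) : ℕ := (List.range 12).foldr (fun k s => ent A i k * ent B k j + s) 0

/-- The check of a product. -/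
def mulOK (A B C : ℕ) : Bool :=
  frc A fun A => frc B fun B => frc C fun C =>
  (List.range 12).all fun i => (List.range 12).all fun j => dot A B i j % 7 == ent C i j % 7

/-- The check of a multiple. -/
def smulOK (c A B : ℕ) : Bool :=
  (List.range 12).all fun i => (List.range 12).all fun j => c * ent A i j % 7 == ent B i j % 7

theorem mat_mul {A B C : ℕ} (h : mulOK A B C = true) : mat A * mat B = mat C := by
  simp only [mulOK, frc_eq, List.all_eq_true, List.mem_range, beq_iff_eq] at h
  ext i j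
  have hd : ((dot A B i.1 j.1 : ℕ) : ZMod 7) = ∑ k : Fin 12, mat A i k * mat B k j := by
    rw [dot, Fin.sum_univ_def, ← List.map_coe_finRange_eq_range]
    induction List.finRange 12 with
    | nil => simp
    | cons a l ih =>
      simp only [List.map_cons, List.foldr_cons, List.sum_cons, Nat.cast_add, Nat.cast_mul, ih]
      simp [mat]
  rw [Matrix.mul_apply, ← hd, mat, Matrix.of_apply, ZMod.natCast_eq_natCast_iff']
  exact h i.1 i.2 j.1 j.2

theorem mat_smul {c A B : ℕ} (h : smulOK c A B = true) : (c : ZMod 7) • mat A = mat B := by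
  simp only [smulOK, List.all_eq_true, List.mem_range, beq_iff_eq] at h
  ext i j
  rw [Matrix.smul_apply, mat, mat, Matrix.of_apply, Matrix.of_apply, smul_eq_mul, ← Nat.cast_mul,
    ZMod.natCast_eq_natCast_iff']
  exact h i.1 i.2 j.1 j.2

theorem mat_one : mat Data.matOne = 1 := by
  have h : ∀ i j : Fin 12, ent Data.matOne i.1 j.1 = if i = j then 1 else 0 := by decide +kernel
  ext i j
  rw [mat, Matrix.of_apply, h, Matrix.one_apply]
  split <;> simp

theorem gens_inv : ∀ y : Fin 7,
    mulOK (Data.gens.getD y.1 0) (Data.gensInv.getD y.1 0) Data.matOne = true ∧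
    mulOK (Data.gensInv.getD y.1 0) (Data.gens.getD y.1 0) Data.matOne = true := by decide +kernel

/-- The lift of a generator. -/
def lift (y : Fin 7) : GL12 :=
  ⟨mat (Data.gens.getD y.1 0), mat (Data.gensInv.getD y.1 0), (mat_mul (gens_inv y).1).trans mat_one,
    (mat_mul (gens_inv y).2).trans mat_one⟩

/-- The lift of a number. -/
def liftN (y : ℕ) : GL12 := lift (Fin.ofNat 7 y)

/-- The check of partial products. -/
def chainOK : List ℕ → List ℕ → ℕ → Bool
  | [], [], _ => true
  | y :: w, p :: ps, cur => decide (y < 7) && mulOK cur (Data.gens.getD y 0) p && chainOK w ps p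
  | _, _, _ => false

/-- The last partial product. -/
def chainEnd : List ℕ → ℕ → ℕ
  | [], cur => cur
  | p :: ps, _ => chainEnd ps p

theorem chain_spec : ∀ (w ps : List ℕ) (cur : ℕ), chainOK w ps cur = true →
    mat cur * ((w.map liftN).prod : GL12).1 = mat (chainEnd ps cur)
  | [], [], cur, _ => by simp [chainEnd]
  | [], _ :: _, _, h => by simp [chainOK] at h
  | _ :: _, [], _, h => by simp [chainOK] at h
  | y :: w, p :: ps, cur, h => by
    simp only [chainOK, Bool.and_eq_true, decide_eq_true_eq] at h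
    rw [List.map_cons, List.prod_cons, Units.val_mul, ← mul_assoc]
    have e : mat cur * (liftN y : GL12).1 = mat p := by
      rw [← mat_mul h.1.2]
      show _ * mat (Data.gens.getD (y % 7) 0) = _
      rw [Nat.mod_eq_of_lt h.1.1]
    rw [e]
    exact chain_spec w ps p h.2

/-- The scalars. -/
def scalars : (ZMod 7)ˣ →* GL12 := Units.map (algebraMap (ZMod 7) M12).toMonoidHom

theorem scalars_val (c : (ZMod 7)ˣ) : (scalars c : GL12).1 = (c : ZMod 7) • (1 : M12) :=
  Algebra.algebraMap_eq_smul_one _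

theorem scalars_central (c : (ZMod 7)ˣ) (g : GL12) : g * scalars c = scalars c * g := by
  ext1
  rw [Units.val_mul, Units.val_mul, scalars_val, mul_smul_comm, smul_mul_assoc, mul_one, one_mul]

/-- The group of scalars. -/
def Z : Subgroup GL12 := scalars.range

instance : Z.Normal := ⟨fun n hn g => by
  obtain ⟨c, rfl⟩ := hn
  rw [scalars_central, mul_inv_cancel_right]
  exact ⟨c, rfl⟩⟩

/-- The projection modulo scalars. -/
def mk : GL12 →* GL12 ⧸ Z := QuotientGroup.mk' Z

/-- The check of a relator. -/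
def relOK (r : List ℕ × List ℕ × List ℕ × List ℕ × ℕ) : Bool :=
  chainOK r.1 r.2.1 Data.matOne && chainOK r.2.2.1 r.2.2.2.1 Data.matOne &&
    decide (r.2.2.2.2 % 7 ≠ 0) &&
    smulOK r.2.2.2.2 (chainEnd r.2.2.2.1 Data.matOne) (chainEnd r.2.1 Data.matOne)

theorem rels_ok : (Data.rels.all relOK) = true := by decide +kernel

theorem rel_eq {u v : List ℕ} (h : ∃ r ∈ Data.rels, r.1 = u ∧ r.2.2.1 = v) :
    (u.map fun y => mk (liftN y)).prod = (v.map fun y => mk (liftN y)).prod := by
  obtain ⟨r, hr, rfl, rfl⟩ := h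
  have h := List.all_eq_true.1 rels_ok r hr
  simp only [relOK, Bool.and_eq_true, decide_eq_true_eq] at h
  obtain ⟨⟨⟨hu, hv⟩, hc⟩, hs⟩ := h
  have eu := chain_spec _ _ _ hu
  have ev := chain_spec _ _ _ hv
  rw [mat_one, one_mul] at eu ev
  set U : GL12 := (r.1.map liftN).prod
  set V : GL12 := (r.2.2.1.map liftN).prod
  have hc' : Nat.Coprime r.2.2.2.2 7 :=
    ((Nat.Prime.coprime_iff_not_dvd (by norm_num)).2 (by rw [Nat.dvd_iff_mod_eq_zero]; exact hc)).symm
  have e : U = scalars (ZMod.unitOfCoprime _ hc') * V := by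
    ext1
    rw [Units.val_mul, scalars_val, eu, ZMod.coe_unitOfCoprime, smul_mul_assoc, one_mul, ev]
    exact (mat_smul hs).symm
  have : mk U = mk V := by
    rw [e, map_mul, show mk (scalars (ZMod.unitOfCoprime _ hc')) = 1 from
      (QuotientGroup.eq_one_iff _).2 ⟨_, rfl⟩, one_mul]
  simpa [U, V, map_list_prod, Function.comp_def] using this

/-- The number of a generator. -/
def idx : Spor.Suz.Gen → ℕ
  | .a => 0 | .b => 1 | .c => 2 | .d => 3 | .e => 4 | .f => 5 | .g => 6

/-- The image of a generator. -/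
def gen (x : Spor.Suz.Gen) : GL12 ⧸ Z := mk (liftN (idx x))

/-- The relator of a pair. -/
def pairWord (x y : Spor.Suz.Gen) : List ℕ :=
  (List.replicate (Spor.coxLabel Spor.Suz.edges x y) [idx x, idx y]).flatten

theorem pair_mem : ∀ x ∈ [Spor.Suz.Gen.a, .b, .c, .d, .e, .f, .g], ∀ y ∈ [Spor.Suz.Gen.a, .b, .c, .d, .e, .f, .g],
    (Data.rels.any fun r => decide (r.1 = pairWord x y) && decide (r.2.2.1 = [])) = true := by decide +kernel

theorem extra_mem : ∀ uv ∈ [([0], [2, 3, 2, 3, 2, 3, 2, 3]), ([0], [5, 6, 5, 6]),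
      ((List.replicate 5 [0, 1, 2, 5]).flatten, []), ((List.replicate 5 [1, 5, 6]).flatten, []),
      ((List.replicate 3 ((List.replicate 5 [1, 2, 3, 2, 3]).flatten ++ [4])).flatten, [])],
    (Data.rels.any fun r => decide (r.1 = uv.1) && decide (r.2.2.1 = uv.2)) = true := by decide +kernel

theorem prod_replicate (W : List ℕ) (n : ℕ) :
    (((List.replicate n W).flatten.map fun y => mk (liftN y))).prod = (W.map fun y => mk (liftN y)).prod ^ n := by
  induction n with
  | zero => simp
  | succ n ih => rw [List.replicate_succ, List.flatten_cons, List.map_append, List.prod_append, ih, pow_succ']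

theorem rel_any {u v : List ℕ} (h : (Data.rels.any fun r => decide (r.1 = u) && decide (r.2.2.1 = v)) = true) :
    (u.map fun y => mk (liftN y)).prod = (v.map fun y => mk (liftN y)).prod := by
  simp only [List.any_eq_true, Bool.and_eq_true, decide_eq_true_eq] at h
  exact rel_eq h

theorem rels_hold : ∀ r ∈ Spor.coxRelators Spor.Suz.edges ∪ {r | r ∈ Spor.Suz.extra}, FreeGroup.lift gen r = 1 := by
  rintro r (⟨x, -, y, -, rfl⟩ | hr)
  · have h := rel_any (pair_mem x (by cases x <;> simp) y (by cases y <;> simp))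
    rw [pairWord, prod_replicate] at h
    simpa [gen] using h
  · have hm : ∀ uv ∈ _, _ := fun uv h => rel_any (extra_mem uv h)
    simp only [List.forall_mem_cons, List.not_mem_nil, false_implies, implies_true, and_true,
      prod_replicate, List.map_append, List.prod_append] at hm
    obtain ⟨h1, h2, h3, h4, h5⟩ := hm
    simp only [Spor.Suz.extra, Set.mem_ofPred_eq, List.mem_cons, List.not_mem_nil, or_false] at hr
    rcases hr with rfl | rfl | rfl | rfl | rfl
    · rw [map_mul, map_inv, mul_inv_eq_one]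
      simpa [gen, idx, pow_succ, mul_assoc] using h1
    · rw [map_mul, map_inv, mul_inv_eq_one]
      simpa [gen, idx, pow_succ, mul_assoc] using h2
    · simpa [gen, idx, mul_assoc] using h3
    · simpa [gen, idx, mul_assoc] using h4
    · simpa [gen, idx, mul_assoc] using h5

/-- The map to the matrices modulo scalars. -/
noncomputable def ψ : Spor.Suz →* GL12 ⧸ Z := PresentedGroup.toGroup rels_hold

theorem ψ_of (x : Spor.Suz.Gen) : ψ (PresentedGroup.of x) = gen x := PresentedGroup.toGroup.of _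

theorem gen_zero_ne : (ent (Data.gens.getD 0 0) 0 1 % 7 ≠ 0 ∨ ent (Data.gens.getD 0 0) 0 0 % 7 ≠ ent (Data.gens.getD 0 0) 1 1 % 7) ∨
    (List.range 12).any (fun i => (List.range 12).any fun j => !(i == j) && !(ent (Data.gens.getD 0 0) i j % 7 == 0)) = true := by
  decide +kernel

theorem ψ_injective : Function.Injective ψ := by
  haveI := InvChar.Coset.Suz.simple_and_card.1
  rcases IsSimpleGroup.eq_bot_or_eq_top_of_normal ψ.ker inferInstance with h | h
  · exact (MonoidHom.ker_eq_bot_iff _).1 h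
  exfalso
  have h1 : ψ (PresentedGroup.of .a) = 1 := MonoidHom.mem_ker.1 (h ▸ Subgroup.mem_top _)
  rw [ψ_of, gen, mk] at h1
  obtain ⟨c, hc⟩ := (QuotientGroup.eq_one_iff _).1 h1
  have he : ∀ i j : Fin 12, ((ent (Data.gens.getD 0 0) i.1 j.1 : ℕ) : ZMod 7) = if i = j then (c : ZMod 7) else 0 := by
    intro i j
    have := congrArg (fun g : GL12 => g.1 i j) hc
    simp only [scalars_val, Matrix.smul_apply, Matrix.one_apply, smul_eq_mul, mul_ite, mul_one, mul_zero] at this
    exact this.symm
  rcases gen_zero_ne with (h2 | h2) | h2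
  · refine h2 ?_
    have := he 0 1
    rw [if_neg (by decide), ZMod.natCast_eq_zero_iff, Nat.dvd_iff_mod_eq_zero] at this
    exact this
  · refine h2 ?_
    rw [← ZMod.natCast_eq_natCast_iff']
    exact ((he 0 0).trans (if_pos rfl)).trans ((he 1 1).trans (if_pos rfl)).symm
  · simp only [List.any_eq_true, List.mem_range, Bool.and_eq_true, Bool.not_eq_true', beq_eq_false_iff_ne] at h2
    obtain ⟨i, hi, j, hj, hij, hne⟩ := h2
    refine hne ?_
    have := he ⟨i, hi⟩ ⟨j, hj⟩
    rw [if_neg (fun e => hij (congrArg Fin.val e)), ZMod.natCast_eq_zero_iff, Nat.dvd_iff_mod_eq_zero] at this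
    exact this

/-- The extension. -/
noncomputable def Ext : Subgroup GL12 := ψ.range.comap mk

theorem liftN_mem : ∀ y < 7, liftN y ∈ Ext := by
  intro y hy
  rw [Ext, Subgroup.mem_comap]
  interval_cases y
  exacts [⟨_, ψ_of .a⟩, ⟨_, ψ_of .b⟩, ⟨_, ψ_of .c⟩, ⟨_, ψ_of .d⟩, ⟨_, ψ_of .e⟩, ⟨_, ψ_of .f⟩, ⟨_, ψ_of .g⟩]

/-- The check of the products. -/
def opOK (k : ℕ) : Bool :=
  if k < 7 then Data.vals.getD k 0 == Data.gens.getD k 0
  else match Data.ops.getD k (0, 0) with
    | (a, b) => decide (a < k) && decide (b < k) && mulOK (Data.vals.getD a 0) (Data.vals.getD b 0) (Data.vals.getD k 0)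

theorem ops_ok : (List.range Data.vals.length).all opOK = true := by decide +kernel

theorem exists_val : ∀ k < Data.vals.length, ∃ g : Ext, (g : GL12).1 = mat (Data.vals.getD k 0) := by
  intro k
  induction k using Nat.strong_induction_on with
  | _ k ih =>
    intro hk
    have h := List.all_eq_true.1 ops_ok k (List.mem_range.2 hk)
    unfold opOK at h
    by_cases h7 : k < 7
    · rw [if_pos h7, beq_iff_eq] at h
      refine ⟨⟨_, liftN_mem k h7⟩, ?_⟩
      show mat (Data.gens.getD (k % 7) 0) = _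
      rw [Nat.mod_eq_of_lt h7, h]
    · rw [if_neg h7] at h
      rcases e : Data.ops.getD k (0, 0) with ⟨a, b⟩
      simp only [e, Bool.and_eq_true, decide_eq_true_eq] at h
      obtain ⟨⟨ha, hb⟩, hm⟩ := h
      obtain ⟨x, hx⟩ := ih a ha (ha.trans hk)
      obtain ⟨y, hy⟩ := ih b hb (hb.trans hk)
      exact ⟨x * y, by rw [Subgroup.coe_mul, Units.val_mul, hx, hy, mat_mul hm]⟩

/-- The check of a commuting pair. -/
def commOK (c : ℕ × ℕ × ℕ × ℕ × ℕ) : Bool :=
  match c with
  | (u, v, uv, vu, s) => [u, v, uv, vu].all (fun k => decide (k < Data.vals.length)) &&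
    decide (s % 7 ≠ 0) && Data.ops.getD uv (0, 0) == (u, v) && Data.ops.getD vu (0, 0) == (v, u) &&
    !decide (uv < 7) && !decide (vu < 7) &&
    smulOK s (Data.vals.getD vu 0) (Data.vals.getD uv 0)

theorem comms_ok : Data.comms.all commOK = true := by decide +kernel

theorem scalar_mem_commutator {c : ℕ × ℕ × ℕ × ℕ × ℕ} (hc : c ∈ Data.comms) {s : (ZMod 7)ˣ}
    (hs : (c.2.2.2.2 : ZMod 7) = s) : ∃ z ∈ commutator Ext, (z : GL12) = scalars s := by
  obtain ⟨u, v, uv, vu, s'⟩ := c
  have h := List.all_eq_true.1 comms_ok _ hc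
  simp only [commOK, List.all_cons, List.all_nil, Bool.and_true, Bool.and_eq_true, decide_eq_true_eq,
    beq_iff_eq, Bool.not_eq_true', decide_eq_false_iff_not] at h
  obtain ⟨⟨⟨⟨⟨⟨⟨hu, hv, huv, hvu⟩, hs0⟩, ho1⟩, ho2⟩, h71⟩, h72⟩, hsm⟩ := h
  obtain ⟨x, hx⟩ := exists_val u hu
  obtain ⟨y, hy⟩ := exists_val v hv
  have step : ∀ k, k < Data.vals.length → ¬ k < 7 → ∀ a b, Data.ops.getD k (0, 0) = (a, b) →
      mat (Data.vals.getD a 0) * mat (Data.vals.getD b 0) = mat (Data.vals.getD k 0) := by
    intro k hk h7 a b e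
    have h := List.all_eq_true.1 ops_ok k (List.mem_range.2 hk)
    simp only [opOK, if_neg h7, e, Bool.and_eq_true] at h
    exact mat_mul h.2
  refine ⟨⁅x, y⁆, ?_, ?_⟩
  · rw [commutator_def]
    exact Subgroup.commutator_mem_commutator (Subgroup.mem_top _) (Subgroup.mem_top _)
  · have e : (x : GL12) * y = scalars s * ((y : GL12) * x) := by
      ext1
      rw [Units.val_mul, Units.val_mul, Units.val_mul, scalars_val, hx, hy, step uv huv h71 u v ho1,
        step vu hvu h72 v u ho2, smul_mul_assoc, one_mul, ← mat_smul hsm, ← hs]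
    rw [commutatorElement_def, Subgroup.coe_mul, Subgroup.coe_mul, Subgroup.coe_mul, Subgroup.coe_inv,
      Subgroup.coe_inv, e]
    simp [mul_assoc]

theorem exists_cover : ∃ (Γ : Type) (_ : Group Γ) (_ : Finite Γ) (σ : Γ →* Spor.Suz),
    IsStemExtension σ ∧ Nonempty (σ.ker ≃* Multiplicative (ZMod 6)) := by
  let π : Ext →* ψ.range := (mk.comp Ext.subtype).codRestrict ψ.range fun g => g.2
  let σ : Ext →* Spor.Suz := (MonoidHom.ofInjective ψ_injective).symm.toMonoidHom.comp π
  have hker : ∀ g : Ext, g ∈ σ.ker ↔ (g : GL12) ∈ Z := fun g => by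
    rw [MonoidHom.mem_ker, MonoidHom.comp_apply, MulEquiv.coe_toMonoidHom, map_eq_one_iff _ (MulEquiv.injective _),
      ← OneMemClass.coe_eq_one]
    exact QuotientGroup.eq_one_iff _
  have hZ : ∀ s : (ZMod 7)ˣ, scalars s ∈ Ext := fun s => by
    rw [Ext, Subgroup.mem_comap, show mk (scalars s) = 1 from (QuotientGroup.eq_one_iff _).2 ⟨_, rfl⟩]
    exact one_mem _
  refine ⟨Ext, inferInstance, inferInstance, σ, ⟨?_, ?_, ?_⟩, ?_⟩
  · refine (MonoidHom.ofInjective ψ_injective).symm.surjective.comp fun q => ?_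
    obtain ⟨g, hg⟩ := QuotientGroup.mk'_surjective Z (q : GL12 ⧸ Z)
    exact ⟨⟨g, by rw [Ext, Subgroup.mem_comap]; exact hg ▸ q.2⟩, Subtype.ext hg⟩
  · intro g hg
    obtain ⟨s, hs⟩ := (hker g).1 hg
    rw [Subgroup.mem_center_iff]
    intro h
    refine Subtype.ext ?_
    rw [Subgroup.coe_mul, Subgroup.coe_mul, ← hs]
    exact scalars_central s h
  · intro g hg
    obtain ⟨s, hs⟩ := (hker g).1 hg
    have hsplit : ∀ s : (ZMod 7)ˣ, ∃ i : Fin 3, ∃ j : Fin 2,
        s = (ZMod.unitOfCoprime 2 (by norm_num) : (ZMod 7)ˣ) ^ i.1 *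
          (ZMod.unitOfCoprime 6 (by norm_num) : (ZMod 7)ˣ) ^ j.1 := by decide +kernel
    obtain ⟨i, j, rfl⟩ := hsplit s
    obtain ⟨z2, hz2, e2⟩ := scalar_mem_commutator (c := Data.comms.getD 1 (0, 0, 0, 0, 0))
      (s := ZMod.unitOfCoprime 2 (by norm_num)) (by decide +kernel) (by decide +kernel)
    obtain ⟨z6, hz6, e6⟩ := scalar_mem_commutator (c := Data.comms.getD 0 (0, 0, 0, 0, 0))
      (s := ZMod.unitOfCoprime 6 (by norm_num)) (by decide +kernel) (by decide +kernel)
    have : g = z2 ^ i.1 * z6 ^ j.1 := Subtype.ext (by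
      rw [← hs, Subgroup.coe_mul, SubgroupClass.coe_pow, SubgroupClass.coe_pow, e2, e6, map_mul, map_pow,
        map_pow])
    rw [this]
    exact mul_mem (pow_mem hz2 _) (pow_mem hz6 _)
  · have hinj : Function.Injective scalars := fun s t e => by
      have := congrArg (fun g : GL12 => g.1 0 0) e
      simp only [scalars_val, Matrix.smul_apply, Matrix.one_apply_eq, smul_eq_mul, mul_one] at this
      exact Units.ext this
    let f : (ZMod 7)ˣ →* σ.ker :=
      { toFun := fun s => ⟨⟨scalars s, hZ s⟩, (hker _).2 ⟨s, rfl⟩⟩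
        map_one' := Subtype.ext (Subtype.ext (map_one scalars))
        map_mul' := fun s t => Subtype.ext (Subtype.ext (map_mul scalars s t)) }
    have hf : Function.Bijective f := ⟨fun s t e => hinj (congrArg (fun x : σ.ker => ((x : Ext) : GL12)) e),
      fun x => by
        obtain ⟨s, hs⟩ := (hker x.1).1 x.2
        exact ⟨s, Subtype.ext (Subtype.ext hs)⟩⟩
    haveI : Fact (Nat.Prime 7) := ⟨by norm_num⟩
    haveI : IsCyclic (ZMod 7)ˣ := inferInstance
    have hc : Nat.card (ZMod 7)ˣ = 6 := by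
      rw [Nat.card_eq_fintype_card]; rfl
    exact ⟨(MulEquiv.ofBijective f hf).symm.trans
      ((zmodCyclicMulEquiv (G := (ZMod 7)ˣ) inferInstance).symm.trans (hc ▸ MulEquiv.refl _))⟩

end Cfsg.Agent.Lib.SuzMult
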