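import Cfsg.Agent.Lib.SuzMult.Base
import Cfsg.Agent.Lib.SuzMult.Elems

/-!
Each packed permutation is a product of earlier ones, hence is that of an element of the group.
-/

set_option autoImplicit false
set_option maxRecDepth 100000

namespace Cfsg.Agent.Lib.SuzMult

open Cfsg.Agent.InvChar.Coset Cfsg.Agent.Lib.PcMult

theorem real7 : Pts.Reals φ Suz.lvP0_0 :=
  Pts.Reals.step φ (Pts.RealsL.cons φ real6 (Pts.RealsL.cons φ real1 (Pts.RealsL.cons φ real0 (Pts.RealsL.cons φ real2 (Pts.RealsL.cons φ real1 (Pts.RealsL.cons φ real3 (Pts.RealsL.cons φ real2 (Pts.RealsL.cons φ real1 (Pts.RealsL.cons φ real3 (Pts.RealsL.cons φ real4 (Pts.RealsL.cons φ real3 (Pts.RealsL.cons φ real2 (Pts.RealsL.cons φ real6 (Pts.RealsL.cons φ real0 (Pts.RealsL.cons φ real6 (Pts.RealsL.cons φ real2 (Pts.RealsL.cons φ real3 (Pts.RealsL.cons φ real4 (Pts.RealsL.cons φ real1 (Pts.RealsL.cons φ real0 (Pts.RealsL.cons φ real1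 (Pts.RealsL.cons φ real2 (Pts.RealsL.cons φ real3 (Pts.RealsL.cons φ real1 (Pts.RealsL.cons φ real2 (Pts.RealsL.cons φ real0 (Pts.RealsL.cons φ real1 (Pts.RealsL.cons φ real6 (Pts.RealsL.nil φ))))))))))))))))))))))))))))) (by decide +kernel)

theorem real8 : Pts.Reals φ Suz.lvP0_1 :=
  Pts.Reals.step φ (Pts.RealsL.cons φ real6 (Pts.RealsL.cons φ real1 (Pts.RealsL.cons φ real2 (Pts.RealsL.cons φ real3 (Pts.RealsL.cons φ real2 (Pts.RealsL.cons φ real4 (Pts.RealsL.cons φ real3 (Pts.RealsL.cons φ real2 (Pts.RealsL.cons φ real1 (Pts.RealsL.cons φ real5 (Pts.RealsL.cons φ real6 (Pts.RealsL.cons φ real1 (Pts.RealsL.cons φ real2 (Pts.RealsL.cons φ real5 (Pts.RealsL.cons φ real6 (Pts.RealsL.cons φ real2 (Pts.RealsL.cons φ real0 (Pts.RealsL.cons φ real1 (Pts.RealsL.cons φ real5 (Pts.RealsL.cons φ real0 (Pts.RealsL.cons φ real1 (Pts.RealsL.cons φ real2 (Pts.RealsL.cons φ real3 (Pts.RealsL.cons φ real4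 (Pts.RealsL.cons φ real2 (Pts.RealsL.cons φ real3 (Pts.RealsL.cons φ real2 (Pts.RealsL.cons φ real1 (Pts.RealsL.cons φ real6 (Pts.RealsL.nil φ)))))))))))))))))))))))))))))) (by decide +kernel)

theorem real9 : Pts.Reals φ Suz.lvP0_2 :=
  Pts.Reals.step φ (Pts.RealsL.cons φ real6 (Pts.RealsL.cons φ real1 (Pts.RealsL.cons φ real2 (Pts.RealsL.cons φ real3 (Pts.RealsL.cons φ real2 (Pts.RealsL.cons φ real4 (Pts.RealsL.cons φ real3 (Pts.RealsL.cons φ real2 (Pts.RealsL.cons φ real1 (Pts.RealsL.cons φ real0 (Pts.RealsL.cons φ real5 (Pts.RealsL.cons φ real1 (Pts.RealsL.cons φ real0 (Pts.RealsL.cons φ real2 (Pts.RealsL.cons φ real6 (Pts.RealsL.cons φ real5 (Pts.RealsL.cons φ real2 (Pts.RealsL.cons φ real1 (Pts.RealsL.cons φ real6 (Pts.RealsL.cons φ real5 (Pts.RealsL.cons φ real1 (Pts.RealsL.cons φ real2 (Pts.RealsL.cons φ real3 (Pts.RealsL.cons φ real4 (Pts.RealsL.cons φ real2 (Pts.RealsL.cons φ real3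 (Pts.RealsL.cons φ real2 (Pts.RealsL.cons φ real1 (Pts.RealsL.cons φ real6 (Pts.RealsL.nil φ)))))))))))))))))))))))))))))) (by decide +kernel)

theorem real10 : Pts.Reals φ Suz.lvP1_0 :=
  Pts.Reals.step φ (Pts.RealsL.cons φ real8 (Pts.RealsL.cons φ real8 (Pts.RealsL.cons φ real7 (Pts.RealsL.cons φ real9 (Pts.RealsL.cons φ real7 (Pts.RealsL.cons φ real9 (Pts.RealsL.cons φ real7 (Pts.RealsL.cons φ real8 (Pts.RealsL.cons φ real7 (Pts.RealsL.cons φ real8 (Pts.RealsL.cons φ real7 (Pts.RealsL.cons φ real8 (Pts.RealsL.cons φ real7 (Pts.RealsL.cons φ real9 (Pts.RealsL.cons φ real7 (Pts.RealsL.cons φ real9 (Pts.RealsL.cons φ real7 (Pts.RealsL.cons φ real9 (Pts.RealsL.cons φ real7 (Pts.RealsL.cons φ real9 (Pts.RealsL.cons φ real7 (Pts.RealsL.cons φ real8 (Pts.RealsL.cons φ real7 (Pts.RealsL.cons φ real9 (Pts.RealsL.cons φ real7 (Pts.RealsL.cons φ real8 (Pts.RealsL.cons φ real7 (Pts.RealsL.cons φ real9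 (Pts.RealsL.cons φ real7 (Pts.RealsL.cons φ real9 (Pts.RealsL.nil φ))))))))))))))))))))))))))))))) (by decide +kernel)

theorem real11 : Pts.Reals φ Suz.lvP1_1 :=
  Pts.Reals.step φ (Pts.RealsL.cons φ real8 (Pts.RealsL.cons φ real7 (Pts.RealsL.cons φ real8 (Pts.RealsL.cons φ real7 (Pts.RealsL.cons φ real9 (Pts.RealsL.cons φ real7 (Pts.RealsL.cons φ real8 (Pts.RealsL.cons φ real7 (Pts.RealsL.cons φ real9 (Pts.RealsL.cons φ real7 (Pts.RealsL.cons φ real8 (Pts.RealsL.cons φ real7 (Pts.RealsL.cons φ real8 (Pts.RealsL.cons φ real7 (Pts.RealsL.cons φ real8 (Pts.RealsL.cons φ real7 (Pts.RealsL.cons φ real8 (Pts.RealsL.cons φ real7 (Pts.RealsL.cons φ real9 (Pts.RealsL.cons φ real7 (Pts.RealsL.cons φ real9 (Pts.RealsL.cons φ real7 (Pts.RealsL.cons φ real9 (Pts.RealsL.cons φ real7 (Pts.RealsL.cons φ real8 (Pts.RealsL.cons φ real7 (Pts.RealsL.cons φ real8 (Pts.RealsL.cons φ real7 (Pts.RealsL.cons φ real9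 (Pts.RealsL.cons φ real9 (Pts.RealsL.nil φ))))))))))))))))))))))))))))))) (by decide +kernel)

theorem real12 : Pts.Reals φ Suz.lvP1_2 :=
  Pts.Reals.step φ (Pts.RealsL.cons φ real9 (Pts.RealsL.cons φ real7 (Pts.RealsL.cons φ real8 (Pts.RealsL.cons φ real7 (Pts.RealsL.cons φ real8 (Pts.RealsL.cons φ real7 (Pts.RealsL.cons φ real9 (Pts.RealsL.cons φ real7 (Pts.RealsL.cons φ real9 (Pts.RealsL.cons φ real7 (Pts.RealsL.cons φ real9 (Pts.RealsL.cons φ real7 (Pts.RealsL.cons φ real9 (Pts.RealsL.cons φ real9 (Pts.RealsL.cons φ real7 (Pts.RealsL.cons φ real9 (Pts.RealsL.cons φ real7 (Pts.RealsL.cons φ real8 (Pts.RealsL.cons φ real7 (Pts.RealsL.cons φ real9 (Pts.RealsL.cons φ real9 (Pts.RealsL.cons φ real7 (Pts.RealsL.cons φ real8 (Pts.RealsL.cons φ real7 (Pts.RealsL.cons φ real8 (Pts.RealsL.cons φ real7 (Pts.RealsL.cons φ real9 (Pts.RealsL.cons φ real9 (Pts.RealsL.nil φ)))))))))))))))))))))))))))))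 (by decide +kernel)

theorem real13 : Pts.Reals φ Suz.lvP1_3 :=
  Pts.Reals.step φ (Pts.RealsL.cons φ real8 (Pts.RealsL.cons φ real8 (Pts.RealsL.cons φ real7 (Pts.RealsL.cons φ real9 (Pts.RealsL.cons φ real7 (Pts.RealsL.cons φ real9 (Pts.RealsL.cons φ real7 (Pts.RealsL.cons φ real8 (Pts.RealsL.cons φ real8 (Pts.RealsL.cons φ real7 (Pts.RealsL.cons φ real9 (Pts.RealsL.cons φ real7 (Pts.RealsL.cons φ real8 (Pts.RealsL.cons φ real7 (Pts.RealsL.cons φ real8 (Pts.RealsL.cons φ real8 (Pts.RealsL.cons φ real7 (Pts.RealsL.cons φ real8 (Pts.RealsL.cons φ real7 (Pts.RealsL.cons φ real8 (Pts.RealsL.cons φ real7 (Pts.RealsL.cons φ real8 (Pts.RealsL.cons φ real7 (Pts.RealsL.cons φ real9 (Pts.RealsL.cons φ real7 (Pts.RealsL.cons φ real9 (Pts.RealsL.cons φ real7 (Pts.RealsL.cons φ real8 (Pts.RealsL.nil φ))))))))))))))))))))))))))))) (by decide +kernel)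

theorem real14 : Pts.Reals φ Suz.lvP1_4 :=
  Pts.Reals.step φ (Pts.RealsL.cons φ real9 (Pts.RealsL.cons φ real7 (Pts.RealsL.cons φ real8 (Pts.RealsL.cons φ real8 (Pts.RealsL.cons φ real7 (Pts.RealsL.cons φ real8 (Pts.RealsL.cons φ real7 (Pts.RealsL.cons φ real9 (Pts.RealsL.cons φ real7 (Pts.RealsL.cons φ real8 (Pts.RealsL.cons φ real7 (Pts.RealsL.cons φ real9 (Pts.RealsL.cons φ real7 (Pts.RealsL.cons φ real9 (Pts.RealsL.cons φ real9 (Pts.RealsL.cons φ real9 (Pts.RealsL.cons φ real7 (Pts.RealsL.cons φ real9 (Pts.RealsL.cons φ real7 (Pts.RealsL.cons φ real9 (Pts.RealsL.cons φ real9 (Pts.RealsL.cons φ real7 (Pts.RealsL.cons φ real8 (Pts.RealsL.cons φ real7 (Pts.RealsL.cons φ real8 (Pts.RealsL.cons φ real7 (Pts.RealsL.cons φ real9 (Pts.RealsL.cons φ real7 (Pts.RealsL.cons φ real9 (Pts.RealsL.nil φ)))))))))))))))))))))))))))))) (by decide +kernel)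

theorem real15 : Pts.Reals φ Suz.lvP1_5 :=
  Pts.Reals.step φ (Pts.RealsL.cons φ real8 (Pts.RealsL.cons φ real7 (Pts.RealsL.cons φ real8 (Pts.RealsL.cons φ real7 (Pts.RealsL.cons φ real9 (Pts.RealsL.cons φ real7 (Pts.RealsL.cons φ real9 (Pts.RealsL.cons φ real7 (Pts.RealsL.cons φ real8 (Pts.RealsL.cons φ real8 (Pts.RealsL.cons φ real7 (Pts.RealsL.cons φ real8 (Pts.RealsL.cons φ real7 (Pts.RealsL.cons φ real8 (Pts.RealsL.cons φ real8 (Pts.RealsL.cons φ real8 (Pts.RealsL.cons φ real7 (Pts.RealsL.cons φ real8 (Pts.RealsL.cons φ real7 (Pts.RealsL.cons φ real9 (Pts.RealsL.cons φ real7 (Pts.RealsL.cons φ real8 (Pts.RealsL.cons φ real7 (Pts.RealsL.cons φ real9 (Pts.RealsL.cons φ real7 (Pts.RealsL.cons φ real9 (Pts.RealsL.cons φ real9 (Pts.RealsL.cons φ real7 (Pts.RealsL.cons φ real8 (Pts.RealsL.nil φ)))))))))))))))))))))))))))))) (by decide +kernel)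

theorem real16 : Pts.Reals φ Suz.lvP2_0 :=
  Pts.Reals.step φ (Pts.RealsL.cons φ real15 (Pts.RealsL.cons φ real12 (Pts.RealsL.cons φ real10 (Pts.RealsL.cons φ real12 (Pts.RealsL.cons φ real14 (Pts.RealsL.cons φ real13 (Pts.RealsL.cons φ real14 (Pts.RealsL.cons φ real13 (Pts.RealsL.cons φ real10 (Pts.RealsL.cons φ real14 (Pts.RealsL.nil φ))))))))))) (by decide +kernel)

theorem real17 : Pts.Reals φ Suz.lvP2_1 :=
  Pts.Reals.step φ (Pts.RealsL.cons φ real15 (Pts.RealsL.cons φ real11 (Pts.RealsL.cons φ real12 (Pts.RealsL.cons φ real15 (Pts.RealsL.cons φ real12 (Pts.RealsL.cons φ real15 (Pts.RealsL.cons φ real13 (Pts.RealsL.cons φ real11 (Pts.RealsL.cons φ real13 (Pts.RealsL.cons φ real14 (Pts.RealsL.nil φ))))))))))) (by decide +kernel)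

theorem real19 : Pts.Reals φ Suz.lvP2_3 :=
  Pts.Reals.step φ (Pts.RealsL.cons φ real11 (Pts.RealsL.cons φ real13 (Pts.RealsL.cons φ real14 (Pts.RealsL.cons φ real10 (Pts.RealsL.cons φ real12 (Pts.RealsL.cons φ real15 (Pts.RealsL.cons φ real10 (Pts.RealsL.cons φ real15 (Pts.RealsL.cons φ real15 (Pts.RealsL.cons φ real15 (Pts.RealsL.cons φ real12 (Pts.RealsL.cons φ real11 (Pts.RealsL.nil φ))))))))))))) (by decide +kernel)

theorem real20 : Pts.Reals φ Suz.lvP3_0 :=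
  Pts.Reals.step φ (Pts.RealsL.cons φ real16 (Pts.RealsL.cons φ real16 (Pts.RealsL.cons φ real16 (Pts.RealsL.nil φ)))) (by decide +kernel)

theorem real21 : Pts.Reals φ Suz.lvP3_1 :=
  Pts.Reals.step φ (Pts.RealsL.cons φ real17 (Pts.RealsL.cons φ real17 (Pts.RealsL.cons φ real17 (Pts.RealsL.nil φ)))) (by decide +kernel)

theorem real22 : Pts.Reals φ Suz.lvP3_2 :=
  Pts.Reals.step φ (Pts.RealsL.cons φ real17 (Pts.RealsL.cons φ real19 (Pts.RealsL.nil φ))) (by decide +kernel)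

theorem real23 : Pts.Reals φ Suz.lvP4_0 :=
  Pts.Reals.step φ (Pts.RealsL.cons φ real20 (Pts.RealsL.cons φ real20 (Pts.RealsL.cons φ real22 (Pts.RealsL.cons φ real21 (Pts.RealsL.cons φ real21 (Pts.RealsL.nil φ)))))) (by decide +kernel)

theorem real24 : Pts.Reals φ Suz.lvP4_1 :=
  Pts.Reals.step φ (Pts.RealsL.cons φ real21 (Pts.RealsL.cons φ real21 (Pts.RealsL.cons φ real22 (Pts.RealsL.cons φ real20 (Pts.RealsL.nil φ))))) (by decide +kernel)

theorem real25 : Pts.Reals φ Suz.lvP4_2 :=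
  Pts.Reals.step φ (Pts.RealsL.cons φ real21 (Pts.RealsL.cons φ real22 (Pts.RealsL.cons φ real20 (Pts.RealsL.cons φ real20 (Pts.RealsL.nil φ))))) (by decide +kernel)

theorem real26 : Pts.Reals φ Suz.lvP5_0 :=
  Pts.Reals.step φ (Pts.RealsL.cons φ real25 (Pts.RealsL.cons φ real23 (Pts.RealsL.cons φ real25 (Pts.RealsL.cons φ real23 (Pts.RealsL.cons φ real24 (Pts.RealsL.nil φ)))))) (by decide +kernel)

theorem real27 : Pts.Reals φ Suz.lvP5_1 :=
  Pts.Reals.step φ (Pts.RealsL.cons φ real25 (Pts.RealsL.cons φ real23 (Pts.RealsL.cons φ real24 (Pts.RealsL.cons φ real23 (Pts.RealsL.cons φ real24 (Pts.RealsL.nil φ)))))) (by decide +kernel)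

theorem real_p2q0 : Pts.Reals φ Elems.p2q0 :=
  Pts.Reals.step φ (Pts.RealsL.cons φ real21 (Pts.RealsL.cons φ real16 (Pts.RealsL.cons φ real15 (Pts.RealsL.cons φ real13 (Pts.RealsL.cons φ real11 (Pts.RealsL.cons φ real13 (Pts.RealsL.cons φ real8 (Pts.RealsL.cons φ real8 (Pts.RealsL.cons φ real7 (Pts.RealsL.cons φ real8 (Pts.RealsL.cons φ real7 (Pts.RealsL.cons φ real9 (Pts.RealsL.cons φ real7 (Pts.RealsL.cons φ real9 (Pts.RealsL.cons φ real7 (Pts.RealsL.cons φ real8 (Pts.RealsL.cons φ real7 (Pts.RealsL.cons φ real9 (Pts.RealsL.cons φ real7 (Pts.RealsL.cons φ real8 (Pts.RealsL.nil φ))))))))))))))))))))) (by decide +kernel)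

theorem real_p2q1 : Pts.Reals φ Elems.p2q1 :=
  Pts.Reals.step φ (Pts.RealsL.cons φ real25 (Pts.RealsL.cons φ real21 (Pts.RealsL.cons φ real16 (Pts.RealsL.cons φ real13 (Pts.RealsL.cons φ real11 (Pts.RealsL.cons φ real14 (Pts.RealsL.cons φ real13 (Pts.RealsL.cons φ real8 (Pts.RealsL.cons φ real7 (Pts.RealsL.cons φ real9 (Pts.RealsL.cons φ real7 (Pts.RealsL.cons φ real9 (Pts.RealsL.cons φ real7 (Pts.RealsL.cons φ real9 (Pts.RealsL.cons φ real7 (Pts.RealsL.cons φ real8 (Pts.RealsL.cons φ real7 (Pts.RealsL.cons φ real6 (Pts.RealsL.cons φ real1 (Pts.RealsL.cons φ real2 (Pts.RealsL.cons φ real3 (Pts.RealsL.cons φ real5 (Pts.RealsL.nil φ))))))))))))))))))))))) (by decide +kernel)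

theorem real_p2q2 : Pts.Reals φ Elems.p2q2 :=
  Pts.Reals.step φ (Pts.RealsL.cons φ real25 (Pts.RealsL.cons φ real20 (Pts.RealsL.cons φ real20 (Pts.RealsL.cons φ real15 (Pts.RealsL.cons φ real13 (Pts.RealsL.cons φ real15 (Pts.RealsL.cons φ real12 (Pts.RealsL.cons φ real6 (Pts.RealsL.cons φ real1 (Pts.RealsL.cons φ real0 (Pts.RealsL.cons φ real2 (Pts.RealsL.cons φ real1 (Pts.RealsL.cons φ real6 (Pts.RealsL.nil φ)))))))))))))) (by decide +kernel)

theorem real_p2q3 : Pts.Reals φ Elems.p2q3 :=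
  Pts.Reals.step φ (Pts.RealsL.cons φ real25 (Pts.RealsL.cons φ real21 (Pts.RealsL.cons φ real16 (Pts.RealsL.cons φ real10 (Pts.RealsL.cons φ real10 (Pts.RealsL.cons φ real13 (Pts.RealsL.cons φ real11 (Pts.RealsL.cons φ real8 (Pts.RealsL.cons φ real7 (Pts.RealsL.cons φ real8 (Pts.RealsL.cons φ real7 (Pts.RealsL.cons φ real8 (Pts.RealsL.cons φ real7 (Pts.RealsL.cons φ real9 (Pts.RealsL.cons φ real7 (Pts.RealsL.cons φ real8 (Pts.RealsL.cons φ real7 (Pts.RealsL.cons φ real8 (Pts.RealsL.cons φ real7 (Pts.RealsL.cons φ real8 (Pts.RealsL.cons φ real7 (Pts.RealsL.cons φ real9 (Pts.RealsL.cons φ real7 (Pts.RealsL.cons φ real6 (Pts.RealsL.cons φ real1 (Pts.RealsL.cons φ real0 (Pts.RealsL.cons φ real2 (Pts.RealsL.cons φ real1 (Pts.RealsL.cons φ real3 (Pts.RealsL.cons φ real4 (Pts.RealsL.nil φ))))))))))))))))))))))))))))))) (by decide +kernel)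

theorem real_p2q4 : Pts.Reals φ Elems.p2q4 :=
  Pts.Reals.step φ (Pts.RealsL.cons φ real26 (Pts.RealsL.cons φ real25 (Pts.RealsL.cons φ real23 (Pts.RealsL.cons φ real21 (Pts.RealsL.cons φ real21 (Pts.RealsL.cons φ real16 (Pts.RealsL.cons φ real12 (Pts.RealsL.cons φ real15 (Pts.RealsL.cons φ real11 (Pts.RealsL.cons φ real8 (Pts.RealsL.cons φ real8 (Pts.RealsL.cons φ real7 (Pts.RealsL.cons φ real9 (Pts.RealsL.cons φ real7 (Pts.RealsL.cons φ real8 (Pts.RealsL.cons φ real8 (Pts.RealsL.cons φ real7 (Pts.RealsL.cons φ real9 (Pts.RealsL.cons φ real7 (Pts.RealsL.cons φ real9 (Pts.RealsL.cons φ real7 (Pts.RealsL.cons φ real8 (Pts.RealsL.cons φ real7 (Pts.RealsL.cons φ real9 (Pts.RealsL.cons φ real7 (Pts.RealsL.nil φ)))))))))))))))))))))))))) (by decide +kernel)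

theorem real_p2q5 : Pts.Reals φ Elems.p2q5 :=
  Pts.Reals.step φ (Pts.RealsL.cons φ real27 (Pts.RealsL.cons φ real25 (Pts.RealsL.cons φ real23 (Pts.RealsL.cons φ real20 (Pts.RealsL.cons φ real10 (Pts.RealsL.cons φ real12 (Pts.RealsL.cons φ real11 (Pts.RealsL.cons φ real13 (Pts.RealsL.cons φ real15 (Pts.RealsL.cons φ real9 (Pts.RealsL.cons φ real7 (Pts.RealsL.cons φ real9 (Pts.RealsL.cons φ real7 (Pts.RealsL.cons φ real8 (Pts.RealsL.cons φ real7 (Pts.RealsL.cons φ real8 (Pts.RealsL.cons φ real7 (Pts.RealsL.cons φ real9 (Pts.RealsL.cons φ real7 (Pts.RealsL.cons φ real8 (Pts.RealsL.cons φ real8 (Pts.RealsL.cons φ real7 (Pts.RealsL.cons φ real9 (Pts.RealsL.nil φ)))))))))))))))))))))))) (by decide +kernel)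

theorem real_p2q6 : Pts.Reals φ Elems.p2q6 :=
  Pts.Reals.step φ (Pts.RealsL.cons φ real26 (Pts.RealsL.cons φ real25 (Pts.RealsL.cons φ real20 (Pts.RealsL.cons φ real10 (Pts.RealsL.cons φ real15 (Pts.RealsL.cons φ real10 (Pts.RealsL.cons φ real10 (Pts.RealsL.cons φ real8 (Pts.RealsL.cons φ real7 (Pts.RealsL.cons φ real9 (Pts.RealsL.cons φ real7 (Pts.RealsL.cons φ real8 (Pts.RealsL.cons φ real7 (Pts.RealsL.cons φ real8 (Pts.RealsL.cons φ real8 (Pts.RealsL.cons φ real7 (Pts.RealsL.cons φ real8 (Pts.RealsL.cons φ real7 (Pts.RealsL.cons φ real8 (Pts.RealsL.cons φ real7 (Pts.RealsL.cons φ real8 (Pts.RealsL.cons φ real8 (Pts.RealsL.nil φ))))))))))))))))))))))) (by decide +kernel)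

theorem real_p2q7 : Pts.Reals φ Elems.p2q7 :=
  Pts.Reals.step φ (Pts.RealsL.cons φ real26 (Pts.RealsL.cons φ real25 (Pts.RealsL.cons φ real23 (Pts.RealsL.cons φ real13 (Pts.RealsL.cons φ real14 (Pts.RealsL.cons φ real12 (Pts.RealsL.cons φ real8 (Pts.RealsL.cons φ real7 (Pts.RealsL.cons φ real8 (Pts.RealsL.cons φ real8 (Pts.RealsL.cons φ real7 (Pts.RealsL.cons φ real8 (Pts.RealsL.cons φ real8 (Pts.RealsL.cons φ real7 (Pts.RealsL.cons φ real9 (Pts.RealsL.cons φ real7 (Pts.RealsL.cons φ real8 (Pts.RealsL.cons φ real8 (Pts.RealsL.cons φ real7 (Pts.RealsL.cons φ real8 (Pts.RealsL.cons φ real8 (Pts.RealsL.cons φ real7 (Pts.RealsL.cons φ real8 (Pts.RealsL.cons φ real6 (Pts.RealsL.cons φ real1 (Pts.RealsL.cons φ real0 (Pts.RealsL.cons φ real2 (Pts.RealsL.cons φ real1 (Pts.RealsL.cons φ real3 (Pts.RealsL.cons φ real2 (Pts.RealsL.cons φ real3 (Pts.RealsL.cons φ real4 (Pts.RealsL.cons φ real3 (Pts.RealsL.nil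 φ)))))))))))))))))))))))))))))))))) (by decide +kernel)

theorem real_p2q8 : Pts.Reals φ Elems.p2q8 :=
  Pts.Reals.step φ (Pts.RealsL.cons φ real26 (Pts.RealsL.cons φ real14 (Pts.RealsL.cons φ real11 (Pts.RealsL.cons φ real13 (Pts.RealsL.cons φ real13 (Pts.RealsL.cons φ real8 (Pts.RealsL.cons φ real7 (Pts.RealsL.cons φ real9 (Pts.RealsL.cons φ real7 (Pts.RealsL.cons φ real8 (Pts.RealsL.cons φ real7 (Pts.RealsL.cons φ real8 (Pts.RealsL.cons φ real8 (Pts.RealsL.cons φ real7 (Pts.RealsL.cons φ real9 (Pts.RealsL.cons φ real7 (Pts.RealsL.cons φ real8 (Pts.RealsL.cons φ real7 (Pts.RealsL.cons φ real8 (Pts.RealsL.cons φ real8 (Pts.RealsL.cons φ real6 (Pts.RealsL.cons φ real1 (Pts.RealsL.nil φ))))))))))))))))))))))) (by decide +kernel)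

theorem real_p2q9 : Pts.Reals φ Elems.p2q9 :=
  Pts.Reals.step φ (Pts.RealsL.cons φ real23 (Pts.RealsL.cons φ real10 (Pts.RealsL.cons φ real15 (Pts.RealsL.cons φ real12 (Pts.RealsL.cons φ real11 (Pts.RealsL.cons φ real9 (Pts.RealsL.cons φ real7 (Pts.RealsL.cons φ real8 (Pts.RealsL.cons φ real8 (Pts.RealsL.cons φ real7 (Pts.RealsL.cons φ real8 (Pts.RealsL.cons φ real8 (Pts.RealsL.cons φ real7 (Pts.RealsL.cons φ real8 (Pts.RealsL.cons φ real7 (Pts.RealsL.cons φ real8 (Pts.RealsL.cons φ real6 (Pts.RealsL.cons φ real1 (Pts.RealsL.cons φ real2 (Pts.RealsL.cons φ real3 (Pts.RealsL.cons φ real2 (Pts.RealsL.cons φ real1 (Pts.RealsL.cons φ real4 (Pts.RealsL.cons φ real3 (Pts.RealsL.cons φ real6 (Pts.RealsL.nil φ)))))))))))))))))))))))))) (by decide +kernel)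

theorem real_p2q10 : Pts.Reals φ Elems.p2q10 :=
  Pts.Reals.step φ (Pts.RealsL.cons φ real27 (Pts.RealsL.cons φ real23 (Pts.RealsL.cons φ real21 (Pts.RealsL.cons φ real11 (Pts.RealsL.cons φ real11 (Pts.RealsL.cons φ real12 (Pts.RealsL.cons φ real12 (Pts.RealsL.cons φ real10 (Pts.RealsL.cons φ real8 (Pts.RealsL.cons φ real7 (Pts.RealsL.cons φ real9 (Pts.RealsL.cons φ real7 (Pts.RealsL.cons φ real8 (Pts.RealsL.cons φ real7 (Pts.RealsL.cons φ real8 (Pts.RealsL.cons φ real8 (Pts.RealsL.cons φ real7 (Pts.RealsL.cons φ real8 (Pts.RealsL.cons φ real7 (Pts.RealsL.cons φ real8 (Pts.RealsL.cons φ real7 (Pts.RealsL.cons φ real8 (Pts.RealsL.cons φ real6 (Pts.RealsL.cons φ real1 (Pts.RealsL.cons φ real0 (Pts.RealsL.cons φ real1 (Pts.RealsL.cons φ real2 (Pts.RealsL.cons φ real1 (Pts.RealsL.cons φ real3 (Pts.RealsL.cons φ real2 (Pts.RealsL.cons φ real1 (Pts.RealsL.cons φ real4 (Pts.RealsL.nil φ)))))))))))))))))))))))))))))))))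 (by decide +kernel)

theorem real_p2q11 : Pts.Reals φ Elems.p2q11 :=
  Pts.Reals.step φ (Pts.RealsL.cons φ real27 (Pts.RealsL.cons φ real21 (Pts.RealsL.cons φ real21 (Pts.RealsL.cons φ real17 (Pts.RealsL.cons φ real10 (Pts.RealsL.cons φ real12 (Pts.RealsL.cons φ real15 (Pts.RealsL.cons φ real10 (Pts.RealsL.cons φ real9 (Pts.RealsL.cons φ real7 (Pts.RealsL.cons φ real9 (Pts.RealsL.cons φ real7 (Pts.RealsL.cons φ real9 (Pts.RealsL.cons φ real7 (Pts.RealsL.cons φ real8 (Pts.RealsL.cons φ real8 (Pts.RealsL.cons φ real7 (Pts.RealsL.cons φ real9 (Pts.RealsL.cons φ real7 (Pts.RealsL.cons φ real9 (Pts.RealsL.cons φ real6 (Pts.RealsL.cons φ real1 (Pts.RealsL.cons φ real2 (Pts.RealsL.cons φ real3 (Pts.RealsL.cons φ real2 (Pts.RealsL.cons φ real4 (Pts.RealsL.cons φ real3 (Pts.RealsL.cons φ real2 (Pts.RealsL.cons φ real1 (Pts.RealsL.cons φ real5 (Pts.RealsL.cons φ real1 (Pts.RealsL.cons φ real0 (Pts.RealsL.cons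 φ real1 (Pts.RealsL.cons φ real2 (Pts.RealsL.cons φ real3 (Pts.RealsL.cons φ real6 (Pts.RealsL.nil φ))))))))))))))))))))))))))))))))))))) (by decide +kernel)

theorem real_p2q12 : Pts.Reals φ Elems.p2q12 :=
  Pts.Reals.step φ (Pts.RealsL.cons φ real25 (Pts.RealsL.cons φ real23 (Pts.RealsL.cons φ real21 (Pts.RealsL.cons φ real21 (Pts.RealsL.cons φ real17 (Pts.RealsL.cons φ real12 (Pts.RealsL.cons φ real12 (Pts.RealsL.cons φ real15 (Pts.RealsL.cons φ real11 (Pts.RealsL.cons φ real11 (Pts.RealsL.cons φ real9 (Pts.RealsL.cons φ real7 (Pts.RealsL.cons φ real9 (Pts.RealsL.cons φ real7 (Pts.RealsL.cons φ real8 (Pts.RealsL.cons φ real7 (Pts.RealsL.cons φ real9 (Pts.RealsL.cons φ real7 (Pts.RealsL.cons φ real8 (Pts.RealsL.cons φ real7 (Pts.RealsL.cons φ real6 (Pts.RealsL.cons φ real1 (Pts.RealsL.cons φ real0 (Pts.RealsL.cons φ real2 (Pts.RealsL.cons φ real1 (Pts.RealsL.cons φ real3 (Pts.RealsL.cons φ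 real2 (Pts.RealsL.cons φ real4 (Pts.RealsL.cons φ real3 (Pts.RealsL.cons φ real5 (Pts.RealsL.cons φ real1 (Pts.RealsL.cons φ real0 (Pts.RealsL.cons φ real2 (Pts.RealsL.cons φ real1 (Pts.RealsL.cons φ real3 (Pts.RealsL.nil φ)))))))))))))))))))))))))))))))))))) (by decide +kernel)

theorem real_p2q13 : Pts.Reals φ Elems.p2q13 :=
  Pts.Reals.step φ (Pts.RealsL.cons φ real27 (Pts.RealsL.cons φ real23 (Pts.RealsL.cons φ real20 (Pts.RealsL.cons φ real16 (Pts.RealsL.cons φ real14 (Pts.RealsL.cons φ real12 (Pts.RealsL.cons φ real11 (Pts.RealsL.cons φ real11 (Pts.RealsL.cons φ real8 (Pts.RealsL.cons φ real8 (Pts.RealsL.cons φ real7 (Pts.RealsL.cons φ real9 (Pts.RealsL.cons φ real7 (Pts.RealsL.cons φ real8 (Pts.RealsL.cons φ real7 (Pts.RealsL.cons φ real9 (Pts.RealsL.cons φ real6 (Pts.RealsL.cons φ real1 (Pts.RealsL.cons φ real2 (Pts.RealsL.cons φ real3 (Pts.RealsL.cons φ real2 (Pts.RealsL.cons φ real1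 (Pts.RealsL.cons φ real0 (Pts.RealsL.cons φ real4 (Pts.RealsL.cons φ real3 (Pts.RealsL.cons φ real2 (Pts.RealsL.cons φ real1 (Pts.RealsL.cons φ real6 (Pts.RealsL.cons φ real5 (Pts.RealsL.cons φ real1 (Pts.RealsL.cons φ real2 (Pts.RealsL.cons φ real3 (Pts.RealsL.nil φ))))))))))))))))))))))))))))))))) (by decide +kernel)

theorem real_p2q14 : Pts.Reals φ Elems.p2q14 :=
  Pts.Reals.step φ (Pts.RealsL.cons φ real20 (Pts.RealsL.cons φ real20 (Pts.RealsL.cons φ real16 (Pts.RealsL.cons φ real13 (Pts.RealsL.cons φ real11 (Pts.RealsL.cons φ real14 (Pts.RealsL.cons φ real10 (Pts.RealsL.cons φ real8 (Pts.RealsL.cons φ real8 (Pts.RealsL.cons φ real7 (Pts.RealsL.cons φ real8 (Pts.RealsL.cons φ real7 (Pts.RealsL.cons φ real9 (Pts.RealsL.cons φ real7 (Pts.RealsL.cons φ real9 (Pts.RealsL.cons φ real7 (Pts.RealsL.cons φ real8 (Pts.RealsL.cons φ real7 (Pts.RealsL.cons φ real9 (Pts.RealsL.cons φ real6 (Pts.RealsL.cons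 φ real1 (Pts.RealsL.cons φ real0 (Pts.RealsL.cons φ real2 (Pts.RealsL.cons φ real3 (Pts.RealsL.cons φ real2 (Pts.RealsL.cons φ real1 (Pts.RealsL.cons φ real4 (Pts.RealsL.cons φ real3 (Pts.RealsL.cons φ real2 (Pts.RealsL.cons φ real1 (Pts.RealsL.cons φ real3 (Pts.RealsL.nil φ)))))))))))))))))))))))))))))))) (by decide +kernel)

theorem real_p2q15 : Pts.Reals φ Elems.p2q15 :=
  Pts.Reals.step φ (Pts.RealsL.cons φ real26 (Pts.RealsL.cons φ real21 (Pts.RealsL.cons φ real16 (Pts.RealsL.cons φ real14 (Pts.RealsL.cons φ real11 (Pts.RealsL.cons φ real12 (Pts.RealsL.cons φ real11 (Pts.RealsL.cons φ real8 (Pts.RealsL.cons φ real8 (Pts.RealsL.cons φ real7 (Pts.RealsL.cons φ real8 (Pts.RealsL.cons φ real7 (Pts.RealsL.cons φ real9 (Pts.RealsL.cons φ real7 (Pts.RealsL.cons φ real9 (Pts.RealsL.cons φ real7 (Pts.RealsL.cons φ real9 (Pts.RealsL.cons φ real7 (Pts.RealsL.cons φ real8 (Pts.RealsL.cons φ real8 (Pts.RealsL.cons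 φ real6 (Pts.RealsL.cons φ real1 (Pts.RealsL.cons φ real0 (Pts.RealsL.cons φ real2 (Pts.RealsL.cons φ real1 (Pts.RealsL.cons φ real3 (Pts.RealsL.cons φ real2 (Pts.RealsL.cons φ real1 (Pts.RealsL.cons φ real0 (Pts.RealsL.cons φ real4 (Pts.RealsL.cons φ real3 (Pts.RealsL.cons φ real2 (Pts.RealsL.cons φ real1 (Pts.RealsL.cons φ real0 (Pts.RealsL.cons φ real5 (Pts.RealsL.nil φ)))))))))))))))))))))))))))))))))))) (by decide +kernel)

theorem real_p2q16 : Pts.Reals φ Elems.p2q16 :=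
  Pts.Reals.step φ (Pts.RealsL.cons φ real25 (Pts.RealsL.cons φ real21 (Pts.RealsL.cons φ real21 (Pts.RealsL.cons φ real17 (Pts.RealsL.cons φ real14 (Pts.RealsL.cons φ real11 (Pts.RealsL.cons φ real13 (Pts.RealsL.cons φ real10 (Pts.RealsL.cons φ real13 (Pts.RealsL.cons φ real8 (Pts.RealsL.cons φ real7 (Pts.RealsL.cons φ real8 (Pts.RealsL.cons φ real7 (Pts.RealsL.cons φ real9 (Pts.RealsL.cons φ real7 (Pts.RealsL.cons φ real9 (Pts.RealsL.cons φ real7 (Pts.RealsL.cons φ real8 (Pts.RealsL.cons φ real8 (Pts.RealsL.cons φ real7 (Pts.RealsL.cons φ real8 (Pts.RealsL.cons φ real8 (Pts.RealsL.cons φ real7 (Pts.RealsL.cons φ real9 (Pts.RealsL.cons φ real7 (Pts.RealsL.cons φ real6 (Pts.RealsL.cons φ real1 (Pts.RealsL.cons φ real0 (Pts.RealsL.cons φ real2 (Pts.RealsL.cons φ real1 (Pts.RealsL.cons φ real3 (Pts.RealsL.cons φ real2 (Pts.RealsL.cons φ real1 (Pts.RealsL.cons φ real4 (Pts.RealsL.cons φ real3 (Pts.RealsL.cons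 φ real2 (Pts.RealsL.cons φ real5 (Pts.RealsL.cons φ real6 (Pts.RealsL.cons φ real1 (Pts.RealsL.cons φ real0 (Pts.RealsL.nil φ))))))))))))))))))))))))))))))))))))))))) (by decide +kernel)

theorem real_p2q17 : Pts.Reals φ Elems.p2q17 :=
  Pts.Reals.step φ (Pts.RealsL.cons φ real26 (Pts.RealsL.cons φ real17 (Pts.RealsL.cons φ real15 (Pts.RealsL.cons φ real11 (Pts.RealsL.cons φ real15 (Pts.RealsL.cons φ real9 (Pts.RealsL.cons φ real7 (Pts.RealsL.cons φ real8 (Pts.RealsL.cons φ real8 (Pts.RealsL.cons φ real7 (Pts.RealsL.cons φ real8 (Pts.RealsL.cons φ real8 (Pts.RealsL.cons φ real7 (Pts.RealsL.cons φ real8 (Pts.RealsL.cons φ real7 (Pts.RealsL.cons φ real8 (Pts.RealsL.cons φ real7 (Pts.RealsL.cons φ real8 (Pts.RealsL.cons φ real7 (Pts.RealsL.cons φ real8 (Pts.RealsL.cons φ real6 (Pts.RealsL.cons φ real1 (Pts.RealsL.cons φ real2 (Pts.RealsL.cons φ real3 (Pts.RealsL.cons φ real2 (Pts.RealsL.cons φ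 real1 (Pts.RealsL.cons φ real4 (Pts.RealsL.cons φ real3 (Pts.RealsL.cons φ real2 (Pts.RealsL.cons φ real1 (Pts.RealsL.cons φ real0 (Pts.RealsL.cons φ real3 (Pts.RealsL.cons φ real4 (Pts.RealsL.cons φ real6 (Pts.RealsL.nil φ))))))))))))))))))))))))))))))))))) (by decide +kernel)

theorem real_p3q0 : Pts.Reals φ Elems.p3q0 :=
  Pts.Reals.step φ (Pts.RealsL.cons φ real25 (Pts.RealsL.cons φ real23 (Pts.RealsL.cons φ real20 (Pts.RealsL.cons φ real20 (Pts.RealsL.cons φ real16 (Pts.RealsL.cons φ real14 (Pts.RealsL.cons φ real10 (Pts.RealsL.cons φ real10 (Pts.RealsL.cons φ real13 (Pts.RealsL.nil φ)))))))))) (by decide +kernel)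

theorem real_p3q1 : Pts.Reals φ Elems.p3q1 :=
  Pts.Reals.step φ (Pts.RealsL.cons φ real25 (Pts.RealsL.cons φ real20 (Pts.RealsL.cons φ real10 (Pts.RealsL.cons φ real12 (Pts.RealsL.cons φ real12 (Pts.RealsL.cons φ real9 (Pts.RealsL.cons φ real7 (Pts.RealsL.cons φ real8 (Pts.RealsL.cons φ real7 (Pts.RealsL.cons φ real8 (Pts.RealsL.cons φ real7 (Pts.RealsL.cons φ real8 (Pts.RealsL.cons φ real7 (Pts.RealsL.cons φ real9 (Pts.RealsL.cons φ real7 (Pts.RealsL.cons φ real8 (Pts.RealsL.cons φ real7 (Pts.RealsL.cons φ real8 (Pts.RealsL.cons φ real7 (Pts.RealsL.nil φ)))))))))))))))))))) (by decide +kernel)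

theorem real_p3q2 : Pts.Reals φ Elems.p3q2 :=
  Pts.Reals.step φ (Pts.RealsL.cons φ real26 (Pts.RealsL.cons φ real23 (Pts.RealsL.cons φ real20 (Pts.RealsL.cons φ real20 (Pts.RealsL.cons φ real10 (Pts.RealsL.cons φ real14 (Pts.RealsL.cons φ real8 (Pts.RealsL.cons φ real7 (Pts.RealsL.cons φ real9 (Pts.RealsL.cons φ real7 (Pts.RealsL.cons φ real8 (Pts.RealsL.cons φ real7 (Pts.RealsL.cons φ real8 (Pts.RealsL.cons φ real8 (Pts.RealsL.cons φ real7 (Pts.RealsL.cons φ real8 (Pts.RealsL.cons φ real7 (Pts.RealsL.cons φ real8 (Pts.RealsL.cons φ real7 (Pts.RealsL.cons φ real8 (Pts.RealsL.cons φ real7 (Pts.RealsL.cons φ real6 (Pts.RealsL.cons φ real1 (Pts.RealsL.nil φ)))))))))))))))))))))))) (by decide +kernel)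

theorem real_p3q3 : Pts.Reals φ Elems.p3q3 :=
  Pts.Reals.step φ (Pts.RealsL.cons φ real27 (Pts.RealsL.cons φ real23 (Pts.RealsL.cons φ real20 (Pts.RealsL.cons φ real20 (Pts.RealsL.cons φ real16 (Pts.RealsL.cons φ real15 (Pts.RealsL.cons φ real15 (Pts.RealsL.cons φ real10 (Pts.RealsL.cons φ real12 (Pts.RealsL.cons φ real8 (Pts.RealsL.cons φ real7 (Pts.RealsL.cons φ real9 (Pts.RealsL.cons φ real7 (Pts.RealsL.cons φ real8 (Pts.RealsL.cons φ real7 (Pts.RealsL.cons φ real8 (Pts.RealsL.cons φ real8 (Pts.RealsL.cons φ real7 (Pts.RealsL.cons φ real9 (Pts.RealsL.cons φ real7 (Pts.RealsL.cons φ real8 (Pts.RealsL.cons φ real7 (Pts.RealsL.cons φ real9 (Pts.RealsL.cons φ real6 (Pts.RealsL.nil φ))))))))))))))))))))))))) (by decide +kernel)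

theorem real_p3q4 : Pts.Reals φ Elems.p3q4 :=
  Pts.Reals.step φ (Pts.RealsL.cons φ real26 (Pts.RealsL.cons φ real25 (Pts.RealsL.cons φ real14 (Pts.RealsL.cons φ real11 (Pts.RealsL.cons φ real12 (Pts.RealsL.cons φ real10 (Pts.RealsL.cons φ real9 (Pts.RealsL.cons φ real7 (Pts.RealsL.cons φ real8 (Pts.RealsL.cons φ real7 (Pts.RealsL.cons φ real9 (Pts.RealsL.cons φ real7 (Pts.RealsL.cons φ real9 (Pts.RealsL.cons φ real7 (Pts.RealsL.cons φ real9 (Pts.RealsL.cons φ real7 (Pts.RealsL.cons φ real8 (Pts.RealsL.cons φ real7 (Pts.RealsL.cons φ real9 (Pts.RealsL.cons φ real7 (Pts.RealsL.cons φ real6 (Pts.RealsL.cons φ real1 (Pts.RealsL.cons φ real2 (Pts.RealsL.cons φ real3 (Pts.RealsL.nil φ))))))))))))))))))))))))) (by decide +kernel)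

theorem real_p3q5 : Pts.Reals φ Elems.p3q5 :=
  Pts.Reals.step φ (Pts.RealsL.cons φ real26 (Pts.RealsL.nil φ)) (by decide +kernel)

theorem real_p3q6 : Pts.Reals φ Elems.p3q6 :=
  Pts.Reals.step φ (Pts.RealsL.cons φ real26 (Pts.RealsL.cons φ real23 (Pts.RealsL.cons φ real16 (Pts.RealsL.cons φ real10 (Pts.RealsL.cons φ real14 (Pts.RealsL.cons φ real10 (Pts.RealsL.cons φ real13 (Pts.RealsL.cons φ real13 (Pts.RealsL.cons φ real8 (Pts.RealsL.cons φ real7 (Pts.RealsL.cons φ real8 (Pts.RealsL.cons φ real7 (Pts.RealsL.cons φ real9 (Pts.RealsL.cons φ real7 (Pts.RealsL.cons φ real8 (Pts.RealsL.cons φ real7 (Pts.RealsL.cons φ real9 (Pts.RealsL.cons φ real7 (Pts.RealsL.cons φ real9 (Pts.RealsL.cons φ real7 (Pts.RealsL.cons φ real9 (Pts.RealsL.cons φ real7 (Pts.RealsL.cons φ real9 (Pts.RealsL.cons φ real6 (Pts.RealsL.cons φ real1 (Pts.RealsL.cons φ real0 (Pts.RealsL.cons φ real2 (Pts.RealsL.cons φ real1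 (Pts.RealsL.cons φ real3 (Pts.RealsL.cons φ real2 (Pts.RealsL.cons φ real1 (Pts.RealsL.cons φ real5 (Pts.RealsL.cons φ real6 (Pts.RealsL.nil φ)))))))))))))))))))))))))))))))))) (by decide +kernel)

theorem real_p3q7 : Pts.Reals φ Elems.p3q7 :=
  Pts.Reals.step φ (Pts.RealsL.cons φ real26 (Pts.RealsL.cons φ real25 (Pts.RealsL.cons φ real23 (Pts.RealsL.cons φ real16 (Pts.RealsL.cons φ real11 (Pts.RealsL.cons φ real15 (Pts.RealsL.cons φ real15 (Pts.RealsL.cons φ real8 (Pts.RealsL.cons φ real8 (Pts.RealsL.cons φ real7 (Pts.RealsL.cons φ real9 (Pts.RealsL.cons φ real7 (Pts.RealsL.cons φ real9 (Pts.RealsL.cons φ real7 (Pts.RealsL.cons φ real8 (Pts.RealsL.cons φ real7 (Pts.RealsL.cons φ real9 (Pts.RealsL.cons φ real7 (Pts.RealsL.cons φ real8 (Pts.RealsL.cons φ real7 (Pts.RealsL.cons φ real8 (Pts.RealsL.cons φ real6 (Pts.RealsL.cons φ real1 (Pts.RealsL.cons φ real2 (Pts.RealsL.cons φ real3 (Pts.RealsL.cons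 φ real2 (Pts.RealsL.cons φ real1 (Pts.RealsL.cons φ real5 (Pts.RealsL.cons φ real6 (Pts.RealsL.nil φ)))))))))))))))))))))))))))))) (by decide +kernel)

theorem real_p3q8 : Pts.Reals φ Elems.p3q8 :=
  Pts.Reals.step φ (Pts.RealsL.cons φ real27 (Pts.RealsL.cons φ real23 (Pts.RealsL.cons φ real20 (Pts.RealsL.cons φ real20 (Pts.RealsL.cons φ real17 (Pts.RealsL.cons φ real12 (Pts.RealsL.cons φ real14 (Pts.RealsL.cons φ real13 (Pts.RealsL.cons φ real13 (Pts.RealsL.cons φ real9 (Pts.RealsL.cons φ real7 (Pts.RealsL.cons φ real9 (Pts.RealsL.cons φ real7 (Pts.RealsL.cons φ real9 (Pts.RealsL.cons φ real7 (Pts.RealsL.cons φ real8 (Pts.RealsL.cons φ real7 (Pts.RealsL.cons φ real8 (Pts.RealsL.cons φ real8 (Pts.RealsL.cons φ real7 (Pts.RealsL.cons φ real9 (Pts.RealsL.cons φ real7 (Pts.RealsL.cons φ real9 (Pts.RealsL.cons φ real6 (Pts.RealsL.cons φ real1 (Pts.RealsL.cons φ real2 (Pts.RealsL.cons φ real3 (Pts.RealsL.cons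 φ real2 (Pts.RealsL.cons φ real1 (Pts.RealsL.cons φ real6 (Pts.RealsL.cons φ real5 (Pts.RealsL.cons φ real1 (Pts.RealsL.cons φ real2 (Pts.RealsL.cons φ real3 (Pts.RealsL.cons φ real2 (Pts.RealsL.cons φ real1 (Pts.RealsL.cons φ real5 (Pts.RealsL.nil φ)))))))))))))))))))))))))))))))))))))) (by decide +kernel)

theorem real_p5q0 : Pts.Reals φ Elems.p5q0 :=
  Pts.Reals.step φ (Pts.RealsL.cons φ real27 (Pts.RealsL.cons φ real23 (Pts.RealsL.cons φ real21 (Pts.RealsL.cons φ real16 (Pts.RealsL.cons φ real11 (Pts.RealsL.cons φ real14 (Pts.RealsL.cons φ real14 (Pts.RealsL.cons φ real12 (Pts.RealsL.cons φ real8 (Pts.RealsL.cons φ real8 (Pts.RealsL.cons φ real7 (Pts.RealsL.cons φ real8 (Pts.RealsL.cons φ real8 (Pts.RealsL.nil φ)))))))))))))) (by decide +kernel)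

theorem real_p5q1 : Pts.Reals φ Elems.p5q1 :=
  Pts.Reals.step φ (Pts.RealsL.cons φ real27 (Pts.RealsL.cons φ real21 (Pts.RealsL.cons φ real21 (Pts.RealsL.cons φ real17 (Pts.RealsL.cons φ real12 (Pts.RealsL.cons φ real14 (Pts.RealsL.cons φ real14 (Pts.RealsL.cons φ real13 (Pts.RealsL.cons φ real8 (Pts.RealsL.cons φ real7 (Pts.RealsL.cons φ real8 (Pts.RealsL.cons φ real7 (Pts.RealsL.cons φ real9 (Pts.RealsL.cons φ real7 (Pts.RealsL.cons φ real9 (Pts.RealsL.cons φ real7 (Pts.RealsL.cons φ real8 (Pts.RealsL.cons φ real7 (Pts.RealsL.cons φ real8 (Pts.RealsL.cons φ real7 (Pts.RealsL.cons φ real8 (Pts.RealsL.cons φ real8 (Pts.RealsL.nil φ))))))))))))))))))))))) (by decide +kernel)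

theorem real_p5q2 : Pts.Reals φ Elems.p5q2 :=
  Pts.Reals.step φ (Pts.RealsL.cons φ real25 (Pts.RealsL.cons φ real23 (Pts.RealsL.cons φ real21 (Pts.RealsL.cons φ real21 (Pts.RealsL.cons φ real16 (Pts.RealsL.cons φ real12 (Pts.RealsL.cons φ real11 (Pts.RealsL.cons φ real14 (Pts.RealsL.cons φ real12 (Pts.RealsL.cons φ real10 (Pts.RealsL.cons φ real8 (Pts.RealsL.cons φ real7 (Pts.RealsL.cons φ real9 (Pts.RealsL.cons φ real7 (Pts.RealsL.cons φ real8 (Pts.RealsL.cons φ real7 (Pts.RealsL.cons φ real8 (Pts.RealsL.cons φ real8 (Pts.RealsL.cons φ real7 (Pts.RealsL.nil φ)))))))))))))))))))) (by decide +kernel)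

theorem real_p5q3 : Pts.Reals φ Elems.p5q3 :=
  Pts.Reals.step φ (Pts.RealsL.cons φ real23 (Pts.RealsL.cons φ real17 (Pts.RealsL.cons φ real13 (Pts.RealsL.cons φ real14 (Pts.RealsL.cons φ real10 (Pts.RealsL.cons φ real9 (Pts.RealsL.cons φ real7 (Pts.RealsL.cons φ real8 (Pts.RealsL.cons φ real8 (Pts.RealsL.cons φ real7 (Pts.RealsL.cons φ real9 (Pts.RealsL.cons φ real7 (Pts.RealsL.cons φ real8 (Pts.RealsL.cons φ real7 (Pts.RealsL.cons φ real8 (Pts.RealsL.cons φ real8 (Pts.RealsL.cons φ real7 (Pts.RealsL.nil φ)))))))))))))))))) (by decide +kernel)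

theorem real_p5q4 : Pts.Reals φ Elems.p5q4 :=
  Pts.Reals.step φ (Pts.RealsL.cons φ real26 (Pts.RealsL.cons φ real25 (Pts.RealsL.cons φ real20 (Pts.RealsL.cons φ real17 (Pts.RealsL.cons φ real12 (Pts.RealsL.cons φ real12 (Pts.RealsL.cons φ real11 (Pts.RealsL.cons φ real11 (Pts.RealsL.cons φ real9 (Pts.RealsL.cons φ real7 (Pts.RealsL.cons φ real8 (Pts.RealsL.cons φ real7 (Pts.RealsL.cons φ real9 (Pts.RealsL.cons φ real7 (Pts.RealsL.cons φ real9 (Pts.RealsL.cons φ real7 (Pts.RealsL.cons φ real9 (Pts.RealsL.cons φ real7 (Pts.RealsL.nil φ))))))))))))))))))) (by decide +kernel)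

end Cfsg.Agent.Lib.SuzMult
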