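import Cfsg.Agent.Lib.PcMult.Pts.Check
import Cfsg.Agent.Lib.PcMult.Bounded
import Cfsg.Agent.Lib.SuzMult.Steps

/-!
Certificate for the prime 2.
-/

set_option autoImplicit false
set_option maxRecDepth 100000

namespace Cfsg.Agent.Lib.SuzMult.P2

open Cfsg.Agent.InvChar.Coset Cfsg.Agent.Lib.PcMult

/-- The presentation. -/
def R : Pres :=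
  ⟨2, 13, [[0, 0, 0, 0, 0, 0, 0, 0, 0, 0, 0, 0, 0], [0, 0, 0, 0, 0, 0, 0, 0, 0, 0, 0, 0, 0], [0, 0, 0, 0, 0, 0,
    0, 0, 0, 0, 0, 0, 0], [0, 0, 0, 0, 0, 0, 0, 0, 0, 0, 0, 0, 0], [0, 0, 0, 0, 0, 0, 0, 0, 0, 0, 0, 0, 0], [0,
    0, 0, 0, 0, 0, 0, 0, 0, 0, 0, 0, 0], [0, 0, 0, 0, 0, 0, 0, 0, 0, 0, 0, 0, 0], [0, 0, 0, 0, 0, 0, 0, 0, 0,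
    0, 0, 0, 0], [0, 0, 0, 0, 0, 0, 0, 0, 0, 0, 0, 0, 1], [0, 0, 0, 0, 0, 0, 0, 0, 0, 0, 0, 0, 1], [0, 0, 0, 0,
    0, 0, 0, 0, 0, 0, 0, 0, 0], [0, 0, 0, 0, 0, 0, 0, 0, 0, 0, 0, 0, 0], [0, 0, 0, 0, 0, 0, 0, 0, 0, 0, 0, 0,
    0]], [[[], [0, 1, 0, 0, 0, 0, 1, 0, 1, 0, 1, 0, 1], [0, 0, 1, 0, 0, 1, 0, 1, 1, 1, 0, 0, 0], [0, 0, 0, 1,
    1, 1, 1, 0, 1, 0, 0, 1, 0], [0, 0, 0, 0, 1, 0, 0, 0, 0, 0, 0, 0, 0], [0, 0, 0, 0, 0, 1, 0, 0, 0, 0, 0, 0,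
    0], [0, 0, 0, 0, 0, 0, 1, 0, 0, 0, 0, 0, 0], [0, 0, 0, 0, 0, 0, 0, 1, 0, 0, 0, 1, 0], [0, 0, 0, 0, 0, 0, 0,
    0, 1, 0, 0, 0, 1], [0, 0, 0, 0, 0, 0, 0, 0, 0, 1, 0, 0, 1], [0, 0, 0, 0, 0, 0, 0, 0, 0, 0, 1, 1, 1], [0, 0,
    0, 0, 0, 0, 0, 0, 0, 0, 0, 1, 0], [0, 0, 0, 0, 0, 0, 0, 0, 0, 0, 0, 0, 1]], [[], [], [0, 0, 1, 0, 0, 0, 0,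
    0, 0, 0, 1, 1, 1], [0, 0, 0, 1, 0, 0, 0, 0, 0, 0, 1, 1, 1], [0, 0, 0, 0, 1, 0, 0, 1, 0, 1, 0, 1, 0], [0, 0,
    0, 0, 0, 1, 0, 1, 0, 0, 1, 1, 1], [0, 0, 0, 0, 0, 0, 1, 0, 0, 0, 1, 0, 1], [0, 0, 0, 0, 0, 0, 0, 1, 0, 0,
    0, 0, 0], [0, 0, 0, 0, 0, 0, 0, 0, 1, 0, 1, 1, 1], [0, 0, 0, 0, 0, 0, 0, 0, 0, 1, 0, 0, 1], [0, 0, 0, 0, 0,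
    0, 0, 0, 0, 0, 1, 0, 0], [0, 0, 0, 0, 0, 0, 0, 0, 0, 0, 0, 1, 0], [0, 0, 0, 0, 0, 0, 0, 0, 0, 0, 0, 0, 1]],
    [[], [], [], [0, 0, 0, 1, 0, 0, 0, 0, 0, 0, 1, 1, 0], [0, 0, 0, 0, 1, 0, 0, 1, 1, 0, 0, 0, 1], [0, 0, 0, 0,
    0, 1, 0, 0, 0, 0, 1, 0, 0], [0, 0, 0, 0, 0, 0, 1, 1, 0, 0, 0, 0, 1], [0, 0, 0, 0, 0, 0, 0, 1, 0, 0, 0, 0,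
    0], [0, 0, 0, 0, 0, 0, 0, 0, 1, 0, 0, 0, 1], [0, 0, 0, 0, 0, 0, 0, 0, 0, 1, 1, 1, 1], [0, 0, 0, 0, 0, 0, 0,
    0, 0, 0, 1, 0, 0], [0, 0, 0, 0, 0, 0, 0, 0, 0, 0, 0, 1, 0], [0, 0, 0, 0, 0, 0, 0, 0, 0, 0, 0, 0, 1]], [[],
    [], [], [], [0, 0, 0, 0, 1, 0, 0, 0, 1, 1, 1, 1, 0], [0, 0, 0, 0, 0, 1, 0, 0, 1, 0, 0, 0, 1], [0, 0, 0, 0,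
    0, 0, 1, 0, 0, 1, 1, 0, 1], [0, 0, 0, 0, 0, 0, 0, 1, 0, 0, 1, 1, 1], [0, 0, 0, 0, 0, 0, 0, 0, 1, 0, 0, 0,
    1], [0, 0, 0, 0, 0, 0, 0, 0, 0, 1, 0, 0, 0], [0, 0, 0, 0, 0, 0, 0, 0, 0, 0, 1, 0, 1], [0, 0, 0, 0, 0, 0, 0,
    0, 0, 0, 0, 1, 1], [0, 0, 0, 0, 0, 0, 0, 0, 0, 0, 0, 0, 1]], [[], [], [], [], [], [0, 0, 0, 0, 0, 1, 0, 0,
    0, 0, 0, 0, 0], [0, 0, 0, 0, 0, 0, 1, 0, 0, 0, 0, 0, 0], [0, 0, 0, 0, 0, 0, 0, 1, 0, 0, 0, 1, 1], [0, 0, 0,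
    0, 0, 0, 0, 0, 1, 0, 0, 1, 0], [0, 0, 0, 0, 0, 0, 0, 0, 0, 1, 0, 1, 0], [0, 0, 0, 0, 0, 0, 0, 0, 0, 0, 1,
    0, 1], [0, 0, 0, 0, 0, 0, 0, 0, 0, 0, 0, 1, 0], [0, 0, 0, 0, 0, 0, 0, 0, 0, 0, 0, 0, 1]], [[], [], [], [],
    [], [], [0, 0, 0, 0, 0, 0, 1, 0, 0, 0, 0, 0, 0], [0, 0, 0, 0, 0, 0, 0, 1, 0, 0, 0, 0, 0], [0, 0, 0, 0, 0,
    0, 0, 0, 1, 0, 0, 0, 1], [0, 0, 0, 0, 0, 0, 0, 0, 0, 1, 0, 1, 0], [0, 0, 0, 0, 0, 0, 0, 0, 0, 0, 1, 0, 0],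
    [0, 0, 0, 0, 0, 0, 0, 0, 0, 0, 0, 1, 0], [0, 0, 0, 0, 0, 0, 0, 0, 0, 0, 0, 0, 1]], [[], [], [], [], [], [],
    [], [0, 0, 0, 0, 0, 0, 0, 1, 0, 0, 0, 0, 0], [0, 0, 0, 0, 0, 0, 0, 0, 1, 0, 0, 1, 1], [0, 0, 0, 0, 0, 0, 0,
    0, 0, 1, 0, 0, 1], [0, 0, 0, 0, 0, 0, 0, 0, 0, 0, 1, 0, 0], [0, 0, 0, 0, 0, 0, 0, 0, 0, 0, 0, 1, 0], [0, 0,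
    0, 0, 0, 0, 0, 0, 0, 0, 0, 0, 1]], [[], [], [], [], [], [], [], [], [0, 0, 0, 0, 0, 0, 0, 0, 1, 0, 0, 0,
    0], [0, 0, 0, 0, 0, 0, 0, 0, 0, 1, 0, 0, 0], [0, 0, 0, 0, 0, 0, 0, 0, 0, 0, 1, 0, 0], [0, 0, 0, 0, 0, 0, 0,
    0, 0, 0, 0, 1, 0], [0, 0, 0, 0, 0, 0, 0, 0, 0, 0, 0, 0, 1]], [[], [], [], [], [], [], [], [], [], [0, 0, 0,
    0, 0, 0, 0, 0, 0, 1, 0, 0, 1], [0, 0, 0, 0, 0, 0, 0, 0, 0, 0, 1, 0, 0], [0, 0, 0, 0, 0, 0, 0, 0, 0, 0, 0,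
    1, 0], [0, 0, 0, 0, 0, 0, 0, 0, 0, 0, 0, 0, 1]], [[], [], [], [], [], [], [], [], [], [], [0, 0, 0, 0, 0,
    0, 0, 0, 0, 0, 1, 0, 0], [0, 0, 0, 0, 0, 0, 0, 0, 0, 0, 0, 1, 0], [0, 0, 0, 0, 0, 0, 0, 0, 0, 0, 0, 0, 1]],
    [[], [], [], [], [], [], [], [], [], [], [], [0, 0, 0, 0, 0, 0, 0, 0, 0, 0, 0, 1, 0], [0, 0, 0, 0, 0, 0, 0,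
    0, 0, 0, 0, 0, 1]], [[], [], [], [], [], [], [], [], [], [], [], [], [0, 0, 0, 0, 0, 0, 0, 0, 0, 0, 0, 0,
    1]], [[], [], [], [], [], [], [], [], [], [], [], [], []]]⟩

/-- Overlaps. -/
def ovl : List (List ℕ × List ℕ × List ℕ) :=
  [([1], [1, 0], []), ([1], [0, 0], []), ([2], [1, 0], []), ([3], [1, 0], []), ([4], [1, 0], []), ([5], [1, 0],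
    []), ([6], [1, 0], []), ([7], [1, 0], []), ([8], [1, 0], []), ([9], [1, 0], []), ([10], [1, 0], []), ([11],
    [1, 0], []), ([12], [1, 0], []), ([2], [2, 0], []), ([2], [0, 0], []), ([3], [2, 0], []), ([4], [2, 0],
    []), ([5], [2, 0], []), ([6], [2, 0], []), ([7], [2, 0], []), ([8], [2, 0], []), ([9], [2, 0], []), ([10],
    [2, 0], []), ([11], [2, 0], []), ([12], [2, 0], []), ([3], [3, 0], []), ([3], [0, 0], []), ([4], [3, 0],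
    []), ([5], [3, 0], []), ([6], [3, 0], []), ([7], [3, 0], []), ([8], [3, 0], []), ([9], [3, 0], []), ([10],
    [3, 0], []), ([11], [3, 0], []), ([12], [3, 0], []), ([4], [4, 0], []), ([7], [4, 0], []), ([8], [4, 0],
    []), ([10], [4, 0], []), ([5], [5, 0], []), ([7], [5, 0], []), ([8], [5, 0], []), ([9], [5, 0], []), ([10],
    [5, 0], []), ([6], [6, 0], []), ([7], [6, 0], []), ([8], [6, 0], []), ([7], [7, 0], []), ([7], [0, 0], []),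
    ([8], [7, 0], []), ([8], [8, 0], []), ([9], [9, 0], []), ([2], [2, 1], []), ([2], [1, 1], []), ([3], [2,
    1], []), ([4], [2, 1], []), ([5], [2, 1], []), ([6], [2, 1], []), ([7], [2, 1], []), ([8], [2, 1], []),
    ([9], [2, 1], []), ([3], [3, 1], []), ([3], [1, 1], []), ([4], [3, 1], []), ([5], [3, 1], []), ([6], [3,
    1], []), ([9], [3, 1], []), ([4], [4, 1], []), ([4], [1, 1], []), ([5], [4, 1], []), ([7], [4, 1], []),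
    ([5], [5, 1], []), ([6], [6, 1], []), ([4], [3, 2], []), ([5], [3, 2], []), ([4], [4, 2], [])]

/-- Conjugations. -/
def fusion : List Fus :=
  [([([4, 5], [10]), ([4, 5, 7, 8, 10], [4, 5, 7, 8, 10, 12]), ([1, 3, 7], [4, 5]), ([10], [4, 5, 7, 8, 9, 10,
    11, 12]), ([1, 3, 4, 5, 8, 9, 10, 11], [1, 3, 4, 5, 7, 9, 10]), ([4, 5, 7, 8, 10, 11], [1, 3, 8, 10, 11]),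
    ([12], [12])], [([1, 0], [0, 1, 6]), ([2, 0], [0, 2, 6]), ([2, 2], [])]), ([([10], [1, 3, 4, 5, 8, 10]),
    ([1, 2, 3, 4, 7], [2, 5, 8, 9, 11]), ([2, 5, 9, 10], [1, 2, 3, 4, 7, 8, 9]), ([3, 4, 5, 6, 10, 11], [1, 6,
    8, 9, 11])], [([1, 0], [0, 1]), ([3, 0], [0, 3])]), ([([4, 5], [4, 5, 7, 8, 9, 10, 11]), ([1, 2, 3, 4, 7,
    10, 12], [1, 7, 10, 12]), ([1, 3, 7], [4, 5, 9, 10, 11, 12]), ([1, 6, 7, 8, 9, 10, 11], [1, 2, 3, 8, 10,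
    11]), ([1, 3, 4, 5, 8, 9, 10, 11], [1, 3, 7, 9]), ([7, 8, 10, 12], [9, 11]), ([9, 11], [7, 8, 10]), ([10],
    [10, 11, 12]), ([12], [12])], [([1, 1], [])]), ([([4, 5], [1, 3, 4, 5, 7, 10]), ([1, 3, 7], [10, 11, 12]),
    ([10], [1, 3, 4, 5, 7, 9]), ([0, 4, 6, 7, 9, 10, 11, 12], [0, 4, 8, 10]), ([1, 3, 4, 5, 8, 9, 10, 11], [1,
    3, 7, 9]), ([4, 5, 7, 8, 10], [4, 5, 7, 8, 9, 10, 11, 12]), ([4, 5, 7, 8, 10, 11], [11]), ([12], [12])],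
    [([1, 0], [0, 1, 7]), ([3, 0], [0, 3, 5, 6]), ([3, 1], [1, 3, 6]), ([3, 2], [2, 3, 5, 6]), ([4, 3], [3, 4,
    5, 7])]), ([([4, 5], [1, 3, 8, 9, 11, 12]), ([1], [4, 5, 6, 8, 9, 11, 12]), ([2], [0, 7, 8, 9, 10, 12]),
    ([3], [0, 5]), ([2, 8, 10, 12], [4, 6, 7, 9, 10, 11, 12]), ([10], [4, 5, 7, 8, 10, 11]), ([7, 8, 10, 12],
    [4, 5, 9]), ([9], [9, 10, 11]), ([10, 11, 12], [11, 12]), ([12], [12])], [([5, 0], [0, 5, 9]), ([1, 1],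
    []), ([2, 1], [1, 2, 8]), ([3, 1], [1, 3, 8]), ([6, 1], [1, 6, 8]), ([2, 2], []), ([3, 2], [2, 3, 8, 9])])]

/-- The certificate. -/
def C : Cert :=
  ⟨R, ovl, fusion, [[2, 3, 3, 3, 7, 7, 8, 15, 17, 18, 18, 30, 30, 171, 171, 171, 234, 298, 299, 299, 299], [3,
    7, 8, 8, 8, 15, 17, 17, 17, 18, 298], [2, 3, 3, 3, 8, 8, 15, 15, 15, 18, 18, 18, 30, 171, 171, 171, 234,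
    298], [1, 2, 2, 7, 8, 8, 8, 15, 17, 17, 17, 171, 298, 298, 298], [1, 1, 1, 2, 2, 2, 3, 7, 8, 8, 8, 15, 15,
    17, 18, 18, 18, 30], [2, 7, 8, 15, 15, 15, 17, 17, 17, 18, 30, 30, 30], [1, 7, 8, 15, 15, 18, 30, 30, 30],
    [15, 15, 15, 18], [8, 8, 8, 15, 18, 18, 18, 30], [7, 7, 7, 15, 17, 18, 18, 18], [7, 7, 7, 8, 8, 8, 15],
    [7], [8]], [[3, 1, 1, 1, 3, 2, 3, 1, 2, 3, 1, 2, 2, 1, 0, 1, 1, 1, 0, 0, 2, 3, 2, 2, 0, 1, 2, 2, 3, 0, 1,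
    1, 2, 3, 2, 0, 1, 0, 0, 0, 0, 1, 1, 1, 2, 0, 2, 2, 2, 2, 3, 1, 0, 3, 1, 2, 3, 0, 3, 2, 1, 2, 1, 1, 0, 1, 0,
    0, 2, 3, 1, 1, 1, 0, 1, 2, 2, 3, 1, 1, 2, 0, 3, 0, 0, 0, 0, 0, 1, 3, 1, 0, 0, 1, 3], [0, 0, 0, 0, 0, 0, 0,
    0, 0, 0, 0, 0, 0, 0, 0, 0, 0, 0, 0, 0, 0, 0, 0, 0, 0, 0, 0, 0, 0, 0, 0, 0, 0, 0, 0, 0, 0, 0, 0, 0, 0, 0, 0,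
    0, 0, 0, 0, 0, 0, 0, 0, 0, 0, 0, 0, 0, 0, 0, 0, 0, 0, 0, 0, 0, 0, 0, 0, 0, 0, 0, 0, 0, 0, 0, 0, 0, 0, 0, 0,
    0, 0, 0, 0, 0, 0, 0, 0, 0, 0, 0, 0, 0, 0, 0, 0], [0, 0, 0, 0, 0, 0, 0, 0, 0, 0, 0, 0, 0, 0, 0, 0, 0, 0, 0,
    0, 0, 0, 0, 0, 0, 0, 0, 0, 0, 0, 0, 0, 0, 0, 0, 0, 0, 0, 0, 0, 0, 0, 0, 0, 0, 0, 0, 0, 0, 0, 0, 0, 0, 0, 0,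
    0, 0, 0, 0, 0, 0, 0, 0, 0, 0, 0, 0, 0, 0, 0, 0, 0, 0, 0, 0, 0, 0, 0, 0, 0, 0, 0, 0, 0, 0, 0, 0, 0, 0, 0, 0,
    0, 0, 0, 0], [0, 0, 0, 0, 0, 0, 0, 0, 0, 0, 0, 0, 0, 0, 0, 0, 0, 0, 0, 0, 0, 0, 0, 0, 0, 0, 0, 0, 0, 0, 0,
    0, 0, 0, 0, 0, 0, 0, 0, 0, 0, 0, 0, 0, 0, 0, 0, 0, 0, 0, 0, 0, 0, 0, 0, 0, 0, 0, 0, 0, 0, 0, 0, 0, 0, 0, 0,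
    0, 0, 0, 0, 0, 0, 0, 0, 0, 0, 0, 0, 0, 0, 0, 0, 0, 0, 0, 0, 0, 0, 0, 0, 0, 0, 0, 0], [0, 0, 0, 0, 0, 0, 0,
    0, 0, 0, 0, 0, 0, 0, 0, 0, 0, 0, 0, 0, 0, 0, 0, 0, 0, 0, 0, 0, 0, 0, 0, 0, 0, 0, 0, 0, 0, 0, 0, 0, 0, 0, 0,
    0, 0, 0, 0, 0, 0, 0, 0, 0, 0, 0, 0, 0, 0, 0, 0, 0, 0, 0, 0, 0, 0, 0, 0, 0, 0, 0, 0, 0, 0, 0, 0, 0, 0, 0, 0,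
    0, 0, 0, 0, 0, 0, 0, 0, 0, 0, 0, 0, 0, 0, 0, 0], [3, 2, 2, 3, 2, 1, 1, 0, 1, 3, 1, 2, 1, 2, 2, 2, 1, 2, 1,
    3, 1, 0, 3, 3, 3, 1, 0, 1, 3, 3, 3, 3, 3, 1, 3, 0, 1, 0, 0, 3, 0, 3, 3, 0, 3, 3, 2, 0, 0, 3, 3, 2, 1, 3, 3,
    1, 2, 0, 0, 1, 2, 2, 2, 2, 3, 1, 3, 3, 1, 0, 0, 2, 3, 3, 0, 2, 1, 0, 0, 0, 0, 0, 0, 1, 3, 3, 2, 3, 0, 0, 0,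
    0, 0, 0, 0], [1, 0, 0, 2, 0, 0, 0, 3, 0, 0, 0, 3, 1, 2, 2, 0, 2, 0, 3, 3, 3, 1, 2, 1, 3, 3, 2, 3, 3, 2, 3,
    1, 2, 0, 3, 3, 3, 3, 3, 0, 0, 3, 2, 3, 2, 0, 0, 3, 0, 2, 3, 1, 2, 3, 3, 3, 0, 2, 1, 1, 1, 2, 1, 1, 0, 0, 3,
    1, 1, 0, 3, 2, 1, 2, 2, 2, 1, 0, 0, 0, 2, 1, 0, 1, 3, 3, 2, 3, 2, 0, 2, 3, 1, 0, 2], [0, 0, 0, 0, 0, 0, 0,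
    0, 0, 0, 0, 0, 0, 0, 0, 0, 0, 0, 0, 0, 0, 0, 0, 0, 0, 0, 0, 0, 0, 0, 0, 0, 0, 0, 0, 0, 0, 0, 0, 0, 0, 0, 0,
    0, 0, 0, 0, 0, 0, 0, 0, 0, 0, 0, 0, 0, 0, 0, 0, 0, 0, 0, 0, 0, 0, 0, 0, 0, 0, 0, 0, 0, 0, 0, 0, 0, 0, 0, 0,
    0, 0, 0, 0, 0, 0, 0, 0, 0, 0, 0, 0, 0, 0, 0, 0], [0, 0, 0, 0, 0, 0, 0, 0, 0, 0, 0, 0, 0, 0, 0, 0, 0, 0, 0,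
    0, 0, 0, 0, 0, 0, 0, 0, 0, 0, 0, 0, 0, 0, 0, 0, 0, 0, 0, 0, 0, 0, 0, 0, 0, 0, 0, 0, 0, 0, 0, 0, 0, 0, 0, 0,
    0, 0, 0, 0, 0, 0, 0, 0, 0, 0, 0, 0, 0, 0, 0, 0, 0, 0, 0, 0, 0, 0, 0, 0, 0, 0, 0, 0, 0, 0, 0, 0, 0, 0, 0, 0,
    0, 0, 0, 0], [0, 3, 3, 1, 2, 1, 3, 3, 3, 2, 0, 0, 3, 2, 2, 3, 3, 0, 0, 3, 2, 2, 3, 1, 2, 0, 3, 0, 0, 3, 2,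
    2, 2, 0, 0, 0, 0, 3, 1, 3, 3, 2, 2, 2, 3, 0, 1, 3, 0, 3, 2, 1, 2, 3, 3, 3, 1, 1, 1, 3, 2, 0, 2, 0, 3, 1, 1,
    1, 0, 3, 2, 2, 2, 0, 3, 2, 1, 0, 0, 0, 1, 3, 0, 1, 2, 3, 3, 3, 1, 0, 1, 1, 3, 0, 3], [1, 0, 2, 1, 1, 2, 0,
    1, 0, 2, 0, 3, 0, 2, 2, 2, 0, 0, 1, 3, 1, 3, 1, 1, 3, 3, 2, 1, 1, 1, 2, 3, 3, 0, 0, 2, 3, 3, 2, 2, 0, 2, 2,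
    2, 1, 3, 2, 0, 1, 3, 0, 0, 3, 2, 2, 0, 2, 0, 2, 2, 2, 1, 3, 1, 1, 3, 3, 0, 3, 2, 3, 0, 3, 1, 0, 2, 1, 2, 2,
    0, 0, 0, 0, 1, 0, 3, 1, 3, 0, 0, 0, 0, 0, 0, 0], [0, 0, 0, 0, 0, 0, 0, 0, 0, 0, 0, 0, 0, 0, 0, 0, 0, 0, 0,
    0, 0, 0, 0, 0, 0, 0, 0, 0, 0, 0, 0, 0, 0, 0, 0, 0, 0, 3, 3, 1, 0, 1, 0, 1, 3, 0, 0, 0, 0, 0, 0, 0, 0, 0, 0,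
    0, 0, 0, 0, 0, 0, 0, 0, 0, 0, 0, 0, 0, 0, 0, 0, 0, 0, 0, 0, 0, 0, 0, 0, 0, 0, 0, 0, 0, 0, 0, 0, 0, 0, 0, 0,
    0, 0, 0, 0], [0, 0, 0, 0, 0, 0, 0, 0, 0, 0, 0, 0, 0, 0, 0, 0, 0, 0, 0, 0, 0, 0, 0, 0, 0, 0, 0, 0, 0, 0, 0,
    0, 0, 0, 0, 0, 0, 0, 0, 0, 0, 3, 3, 0, 1, 0, 0, 0, 0, 0, 0, 0, 0, 0, 0, 0, 0, 0, 0, 0, 0, 0, 0, 0, 0, 0, 0,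
    0, 0, 0, 0, 0, 0, 0, 0, 0, 0, 0, 0, 0, 0, 0, 0, 0, 0, 0, 0, 0, 0, 0, 0, 0, 0, 0, 0], [0, 0, 3, 0, 0, 0, 1,
    1, 1, 3, 1, 1, 3, 0, 0, 3, 0, 2, 1, 0, 3, 1, 1, 1, 2, 2, 1, 1, 0, 2, 3, 1, 3, 2, 0, 0, 0, 2, 2, 1, 0, 3, 0,
    1, 0, 2, 2, 0, 3, 3, 3, 2, 2, 3, 3, 1, 1, 3, 0, 1, 1, 2, 0, 0, 0, 0, 3, 3, 2, 1, 1, 3, 0, 3, 1, 0, 0, 1, 3,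
    0, 3, 2, 0, 0, 3, 0, 1, 0, 3, 3, 1, 2, 0, 0, 1], [0, 0, 0, 0, 0, 0, 0, 0, 0, 0, 0, 0, 0, 0, 0, 0, 0, 0, 0,
    0, 0, 0, 0, 0, 0, 0, 0, 0, 0, 0, 0, 0, 0, 0, 0, 0, 0, 0, 0, 0, 0, 0, 0, 0, 0, 0, 0, 0, 0, 0, 0, 0, 0, 0, 0,
    0, 0, 0, 0, 0, 0, 0, 0, 0, 0, 0, 0, 0, 0, 0, 0, 0, 0, 0, 0, 0, 0, 0, 0, 0, 0, 0, 0, 0, 0, 0, 0, 0, 0, 0, 0,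
    0, 0, 0, 0], [2, 0, 1, 1, 3, 0, 0, 0, 2, 0, 0, 1, 2, 0, 0, 1, 1, 3, 3, 3, 0, 2, 3, 0, 2, 2, 0, 2, 0, 1, 0,
    1, 2, 0, 1, 2, 0, 1, 0, 2, 0, 2, 2, 1, 0, 3, 2, 3, 1, 1, 1, 1, 3, 1, 3, 0, 3, 1, 3, 3, 3, 0, 2, 0, 3, 1, 1,
    0, 3, 1, 3, 1, 1, 1, 3, 0, 2, 1, 3, 0, 1, 3, 0, 2, 3, 2, 3, 2, 1, 0, 2, 0, 3, 0, 3], [0, 0, 0, 0, 0, 0, 0,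
    0, 0, 0, 0, 0, 0, 0, 0, 0, 0, 0, 0, 0, 0, 0, 0, 0, 0, 0, 0, 0, 0, 0, 0, 0, 0, 0, 0, 0, 0, 0, 0, 0, 0, 0, 0,
    0, 0, 0, 0, 0, 0, 0, 0, 0, 0, 0, 0, 0, 0, 0, 0, 0, 0, 0, 0, 0, 0, 0, 0, 0, 0, 0, 0, 0, 0, 0, 0, 0, 0, 0, 0,
    0, 0, 0, 0, 0, 0, 0, 0, 0, 0, 0, 0, 0, 0, 0, 0], [0, 0, 0, 0, 0, 0, 0, 0, 0, 0, 0, 0, 0, 0, 0, 0, 0, 0, 0,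
    0, 0, 0, 0, 0, 0, 0, 0, 0, 0, 0, 0, 0, 0, 0, 0, 0, 0, 0, 0, 0, 0, 0, 0, 0, 0, 0, 0, 0, 0, 0, 0, 0, 0, 0, 0,
    0, 0, 0, 0, 0, 0, 0, 0, 0, 0, 0, 0, 0, 0, 0, 0, 0, 0, 0, 0, 0, 0, 0, 0, 0, 0, 0, 0, 0, 0, 0, 0, 0, 0, 0, 0,
    0, 0, 0, 0], [1, 3, 3, 3, 1, 0, 0, 0, 2, 1, 3, 0, 0, 0, 0, 3, 1, 1, 2, 0, 1, 0, 3, 0, 0, 2, 0, 1, 1, 2, 3,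
    1, 3, 1, 1, 1, 0, 3, 2, 3, 0, 2, 1, 2, 1, 1, 3, 2, 2, 0, 1, 2, 2, 2, 2, 2, 1, 3, 2, 3, 3, 3, 0, 2, 1, 3, 3,
    0, 1, 3, 3, 2, 3, 2, 1, 0, 2, 3, 1, 0, 3, 1, 0, 2, 2, 2, 0, 2, 3, 0, 0, 3, 0, 0, 1], [0, 0, 0, 0, 1, 2, 1,
    2, 2, 0, 2, 3, 3, 0, 0, 0, 2, 1, 3, 2, 0, 3, 1, 1, 1, 0, 0, 0, 2, 1, 2, 1, 1, 2, 1, 3, 0, 0, 2, 1, 0, 0, 0,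
    3, 1, 2, 0, 2, 3, 3, 3, 0, 3, 0, 0, 2, 0, 0, 3, 0, 3, 0, 2, 2, 0, 0, 0, 0, 0, 0, 0, 0, 0, 0, 0, 0, 0, 0, 0,
    0, 0, 0, 0, 0, 0, 0, 0, 0, 0, 0, 0, 0, 0, 0, 0], [0, 0, 3, 0, 1, 1, 2, 2, 2, 0, 2, 2, 0, 0, 0, 3, 0, 3, 1,
    1, 0, 3, 3, 3, 0, 0, 0, 2, 3, 1, 1, 3, 2, 0, 3, 0, 0, 1, 0, 3, 0, 0, 2, 1, 1, 2, 0, 0, 0, 2, 0, 3, 3, 1, 1,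
    1, 1, 3, 3, 0, 0, 1, 0, 2, 0, 0, 3, 0, 3, 3, 3, 2, 1, 0, 1, 0, 0, 3, 1, 0, 3, 0, 0, 0, 3, 0, 1, 0, 3, 0, 0,
    0, 3, 0, 1], [0, 0, 3, 1, 1, 2, 0, 0, 2, 2, 1, 1, 0, 0, 0, 3, 2, 0, 2, 1, 2, 1, 1, 2, 2, 0, 0, 1, 3, 0, 0,
    0, 2, 3, 0, 0, 2, 0, 0, 1, 0, 1, 2, 3, 1, 1, 1, 3, 0, 2, 0, 0, 0, 2, 2, 0, 1, 3, 1, 3, 2, 3, 1, 1, 3, 1, 0,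
    0, 3, 3, 1, 1, 1, 1, 1, 0, 0, 3, 1, 0, 3, 1, 0, 0, 1, 0, 3, 0, 3, 0, 3, 3, 1, 0, 1], [0, 0, 0, 0, 0, 3, 3,
    0, 2, 3, 3, 3, 2, 0, 0, 0, 2, 0, 1, 3, 1, 2, 1, 3, 3, 0, 0, 0, 2, 0, 2, 0, 2, 2, 0, 0, 0, 1, 1, 1, 0, 2, 1,
    0, 3, 2, 3, 2, 2, 3, 0, 0, 0, 1, 1, 3, 0, 0, 0, 0, 0, 0, 3, 3, 0, 0, 0, 0, 0, 0, 0, 0, 0, 0, 0, 0, 0, 0, 0,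
    0, 0, 0, 0, 0, 0, 0, 0, 0, 0, 0, 0, 0, 0, 0, 0], [0, 0, 0, 0, 0, 1, 1, 0, 2, 1, 1, 1, 2, 0, 0, 0, 2, 0, 3,
    1, 3, 2, 3, 1, 1, 0, 0, 0, 2, 0, 2, 0, 2, 2, 0, 0, 0, 3, 3, 3, 0, 2, 3, 0, 1, 2, 1, 2, 2, 1, 0, 0, 0, 0, 0,
    0, 0, 0, 0, 0, 0, 0, 0, 0, 0, 0, 0, 0, 0, 0, 0, 0, 0, 0, 0, 0, 0, 0, 0, 0, 0, 0, 0, 0, 0, 0, 0, 0, 0, 0, 0,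
    0, 0, 0, 0], [0, 0, 0, 0, 1, 2, 2, 2, 3, 0, 2, 1, 0, 0, 0, 0, 2, 0, 3, 1, 3, 2, 3, 0, 2, 0, 0, 0, 2, 1, 2,
    1, 1, 2, 2, 3, 0, 0, 2, 0, 0, 1, 1, 3, 0, 2, 1, 1, 0, 0, 1, 0, 3, 0, 0, 0, 0, 0, 0, 0, 0, 0, 0, 0, 0, 0, 0,
    0, 0, 0, 0, 0, 0, 0, 0, 0, 0, 0, 0, 0, 0, 0, 0, 0, 0, 0, 0, 0, 0, 0, 0, 0, 0, 0, 0], [0, 2, 3, 0, 2, 0, 1,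
    2, 1, 3, 2, 0, 1, 1, 0, 3, 1, 0, 0, 2, 2, 1, 2, 1, 3, 0, 1, 1, 3, 0, 1, 3, 0, 1, 1, 1, 0, 0, 2, 2, 0, 2, 3,
    1, 3, 1, 3, 0, 3, 1, 3, 0, 0, 2, 2, 2, 1, 2, 3, 2, 0, 2, 3, 1, 3, 2, 3, 0, 1, 1, 2, 0, 2, 2, 3, 2, 3, 0, 0,
    1, 0, 0, 3, 0, 3, 0, 1, 0, 3, 3, 3, 0, 0, 0, 1], [0, 2, 2, 3, 2, 1, 1, 0, 1, 1, 1, 0, 0, 0, 0, 2, 2, 1, 0,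
    3, 0, 0, 2, 0, 0, 2, 0, 0, 2, 2, 0, 0, 1, 3, 2, 3, 0, 2, 2, 3, 0, 0, 2, 0, 2, 2, 2, 0, 3, 3, 0, 0, 2, 3, 3,
    3, 1, 3, 2, 1, 0, 2, 2, 2, 1, 3, 3, 0, 3, 1, 1, 0, 0, 2, 1, 1, 2, 3, 1, 0, 2, 1, 0, 2, 1, 2, 1, 2, 3, 0, 3,
    3, 1, 0, 1], [0, 0, 0, 0, 0, 0, 0, 0, 0, 0, 0, 0, 0, 0, 0, 0, 0, 0, 0, 0, 0, 0, 0, 0, 0, 0, 0, 0, 0, 0, 0,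
    0, 0, 0, 0, 0, 0, 0, 0, 0, 0, 0, 0, 0, 0, 0, 0, 0, 0, 0, 0, 0, 0, 0, 0, 0, 0, 0, 0, 0, 0, 0, 0, 0, 0, 0, 0,
    0, 0, 0, 0, 0, 0, 0, 0, 0, 0, 0, 0, 0, 0, 0, 0, 0, 0, 0, 0, 0, 0, 0, 0, 0, 0, 0, 0], [3, 1, 1, 1, 1, 0, 3,
    0, 1, 1, 1, 1, 2, 1, 1, 1, 0, 0, 0, 0, 0, 2, 1, 2, 0, 3, 1, 0, 3, 0, 3, 3, 3, 2, 3, 2, 1, 0, 0, 1, 0, 2, 1,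
    2, 0, 3, 3, 3, 2, 0, 0, 2, 0, 3, 1, 2, 2, 1, 1, 1, 1, 3, 3, 3, 1, 3, 1, 0, 0, 2, 2, 0, 1, 1, 3, 1, 2, 2, 2,
    0, 1, 2, 0, 2, 3, 2, 3, 2, 1, 0, 2, 2, 1, 0, 3], [3, 2, 2, 1, 3, 1, 1, 0, 2, 2, 1, 2, 1, 2, 2, 3, 1, 2, 1,
    1, 1, 0, 1, 0, 2, 3, 2, 3, 3, 3, 2, 3, 1, 1, 1, 0, 3, 1, 0, 3, 0, 3, 1, 2, 3, 2, 0, 2, 3, 2, 1, 3, 1, 2, 0,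
    3, 1, 1, 0, 0, 3, 2, 1, 3, 1, 3, 1, 1, 2, 1, 2, 3, 2, 0, 3, 3, 1, 3, 1, 0, 1, 0, 0, 1, 1, 3, 0, 3, 1, 0, 0,
    0, 1, 0, 3], [0, 0, 0, 0, 0, 2, 1, 0, 3, 2, 3, 2, 1, 0, 0, 0, 2, 1, 0, 1, 1, 3, 3, 3, 1, 0, 0, 0, 2, 0, 2,
    0, 2, 2, 2, 3, 0, 3, 0, 1, 0, 1, 1, 1, 2, 0, 2, 3, 3, 3, 3, 2, 0, 2, 2, 0, 0, 1, 0, 1, 1, 1, 0, 0, 0, 0, 0,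
    0, 0, 0, 0, 0, 0, 0, 0, 0, 0, 0, 0, 0, 0, 0, 0, 0, 0, 0, 0, 0, 0, 0, 0, 0, 0, 0, 0], [2, 0, 1, 1, 2, 3, 2,
    0, 0, 1, 2, 0, 3, 0, 0, 1, 1, 1, 3, 1, 2, 3, 1, 3, 3, 2, 0, 2, 3, 0, 3, 2, 0, 0, 0, 1, 0, 3, 3, 3, 0, 0, 2,
    3, 1, 1, 2, 0, 0, 1, 0, 0, 0, 2, 2, 2, 3, 1, 3, 0, 0, 2, 1, 1, 3, 1, 1, 0, 3, 1, 1, 3, 1, 1, 3, 3, 2, 1, 3,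
    0, 1, 3, 0, 2, 3, 2, 3, 2, 1, 0, 1, 1, 3, 0, 3], [2, 0, 1, 0, 0, 2, 1, 3, 3, 0, 1, 0, 3, 0, 0, 1, 3, 2, 0,
    2, 0, 0, 3, 2, 1, 2, 0, 2, 2, 2, 3, 0, 3, 1, 0, 0, 2, 1, 1, 3, 0, 2, 2, 0, 2, 2, 1, 1, 2, 1, 1, 0, 2, 3, 1,
    2, 0, 0, 3, 1, 0, 2, 0, 0, 0, 0, 2, 3, 0, 2, 3, 3, 1, 0, 3, 0, 2, 1, 3, 0, 1, 2, 0, 2, 1, 2, 1, 2, 1, 0, 2,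
    2, 1, 0, 3], [0, 0, 0, 0, 1, 1, 0, 2, 0, 3, 2, 1, 0, 0, 0, 0, 1, 3, 1, 0, 2, 2, 3, 2, 2, 0, 0, 0, 1, 1, 1,
    1, 0, 3, 2, 1, 0, 2, 0, 1, 0, 1, 3, 3, 0, 0, 2, 1, 3, 1, 3, 3, 3, 2, 0, 3, 0, 0, 0, 0, 0, 0, 3, 1, 0, 0, 0,
    0, 0, 0, 0, 0, 0, 0, 0, 0, 0, 0, 0, 0, 0, 0, 0, 0, 0, 0, 0, 0, 0, 0, 0, 0, 0, 0, 0], [0, 0, 0, 0, 0, 1, 2,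
    0, 3, 1, 0, 3, 3, 0, 0, 0, 2, 3, 3, 0, 2, 1, 1, 0, 2, 0, 0, 0, 2, 0, 2, 0, 2, 2, 1, 0, 0, 3, 3, 2, 0, 0, 0,
    1, 3, 2, 2, 1, 2, 1, 2, 0, 0, 0, 0, 0, 0, 0, 0, 0, 0, 0, 0, 0, 0, 0, 0, 0, 0, 0, 0, 0, 0, 0, 0, 0, 0, 0, 0,
    0, 0, 0, 0, 0, 0, 0, 0, 0, 0, 0, 0, 0, 0, 0, 0], [0, 0, 0, 0, 0, 2, 0, 0, 2, 2, 0, 3, 1, 0, 0, 0, 3, 2, 1,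
    3, 1, 3, 1, 0, 0, 0, 0, 0, 3, 0, 3, 0, 3, 1, 1, 2, 0, 3, 3, 3, 0, 2, 2, 3, 3, 2, 1, 3, 3, 2, 0, 3, 0, 0, 0,
    0, 0, 0, 0, 0, 0, 0, 0, 0, 0, 0, 0, 0, 0, 0, 0, 0, 0, 0, 0, 0, 0, 0, 0, 0, 0, 0, 0, 0, 0, 0, 0, 0, 0, 0, 0,
    0, 0, 0, 0], [3, 2, 3, 2, 1, 0, 1, 2, 0, 3, 3, 0, 1, 0, 0, 3, 3, 2, 3, 3, 3, 3, 1, 1, 1, 1, 3, 2, 2, 0, 1,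
    0, 1, 1, 2, 3, 3, 2, 2, 3, 0, 2, 3, 3, 3, 3, 0, 0, 0, 2, 2, 3, 0, 1, 3, 2, 1, 3, 3, 2, 3, 0, 2, 2, 0, 3, 2,
    3, 2, 1, 2, 0, 3, 1, 1, 0, 2, 2, 2, 3, 3, 1, 0, 2, 3, 2, 3, 2, 3, 1, 1, 0, 2, 0, 1], [0, 1, 3, 3, 0, 2, 1,
    3, 1, 3, 1, 2, 1, 1, 1, 3, 0, 2, 1, 0, 1, 3, 1, 1, 2, 2, 3, 3, 1, 3, 0, 3, 0, 0, 2, 1, 0, 2, 3, 2, 3, 0, 3,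
    1, 1, 2, 1, 0, 0, 3, 3, 2, 2, 3, 3, 1, 0, 3, 3, 1, 2, 2, 3, 3, 1, 3, 1, 0, 2, 0, 3, 3, 1, 3, 1, 0, 2, 2, 2,
    0, 0, 3, 0, 3, 2, 1, 1, 1, 0, 0, 3, 1, 0, 0, 0], [3, 1, 0, 1, 1, 2, 0, 3, 1, 1, 3, 2, 2, 1, 1, 0, 0, 2, 1,
    0, 3, 3, 2, 3, 2, 3, 1, 0, 2, 0, 3, 0, 0, 2, 1, 0, 1, 2, 3, 3, 0, 0, 2, 1, 0, 1, 3, 2, 3, 0, 2, 1, 0, 0, 0,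
    2, 1, 2, 3, 2, 3, 0, 3, 1, 0, 0, 3, 0, 2, 0, 3, 2, 2, 1, 2, 2, 2, 2, 2, 0, 1, 2, 0, 2, 3, 2, 3, 2, 1, 0, 2,
    2, 1, 0, 3], [0, 2, 3, 2, 0, 2, 0, 0, 3, 0, 1, 3, 2, 0, 0, 3, 1, 2, 0, 2, 0, 2, 0, 1, 2, 3, 1, 3, 1, 2, 3,
    2, 1, 3, 1, 2, 1, 3, 3, 2, 3, 1, 0, 1, 1, 2, 3, 3, 3, 3, 1, 2, 3, 2, 0, 1, 0, 0, 0, 0, 0, 3, 0, 0, 3, 2, 3,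
    1, 2, 0, 2, 0, 0, 3, 0, 1, 2, 0, 0, 0, 3, 0, 0, 2, 3, 2, 3, 2, 3, 0, 1, 0, 2, 0, 1], [0, 0, 3, 0, 2, 1, 3,
    0, 2, 1, 0, 0, 0, 0, 0, 3, 1, 3, 1, 0, 2, 2, 1, 3, 1, 0, 0, 1, 3, 1, 2, 1, 1, 0, 0, 3, 0, 0, 1, 3, 0, 3, 0,
    1, 2, 2, 3, 3, 2, 3, 2, 3, 3, 3, 1, 2, 1, 3, 0, 2, 0, 2, 3, 3, 0, 1, 0, 3, 2, 2, 0, 0, 1, 0, 1, 0, 0, 3, 1,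
    0, 3, 0, 0, 0, 3, 0, 1, 0, 3, 0, 0, 0, 3, 0, 1], [0, 0, 3, 1, 3, 3, 3, 0, 0, 2, 1, 0, 1, 0, 0, 3, 2, 2, 1,
    1, 3, 3, 0, 0, 1, 0, 0, 1, 3, 2, 0, 2, 1, 0, 1, 1, 2, 3, 1, 2, 0, 3, 3, 3, 1, 3, 1, 0, 3, 2, 3, 2, 2, 1, 3,
    0, 2, 2, 1, 3, 1, 3, 1, 3, 3, 0, 2, 0, 2, 2, 2, 3, 1, 1, 2, 3, 0, 3, 1, 0, 3, 1, 0, 0, 1, 0, 3, 0, 3, 0, 3,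
    3, 1, 0, 1], [2, 0, 2, 0, 0, 3, 0, 3, 3, 1, 3, 1, 0, 0, 0, 2, 1, 0, 2, 2, 0, 0, 0, 0, 0, 2, 0, 0, 1, 2, 0,
    2, 1, 0, 1, 2, 2, 3, 1, 2, 0, 3, 3, 0, 3, 0, 2, 1, 0, 1, 2, 3, 2, 2, 0, 3, 2, 2, 0, 2, 1, 2, 1, 3, 1, 3, 1,
    3, 2, 0, 3, 1, 0, 0, 2, 0, 2, 2, 2, 0, 2, 2, 0, 2, 2, 2, 0, 2, 2, 0, 2, 2, 2, 0, 2], [2, 0, 1, 1, 3, 0, 2,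
    2, 0, 0, 0, 2, 2, 0, 0, 1, 2, 0, 0, 1, 0, 1, 1, 1, 1, 2, 0, 2, 0, 1, 0, 3, 0, 3, 2, 3, 0, 1, 2, 0, 0, 0, 1,
    3, 2, 1, 3, 1, 3, 2, 3, 3, 3, 1, 3, 2, 3, 1, 3, 1, 1, 3, 1, 3, 3, 1, 1, 0, 3, 1, 1, 3, 1, 1, 3, 0, 2, 1, 3,
    0, 1, 3, 0, 2, 3, 2, 3, 2, 1, 0, 1, 1, 3, 0, 3], [0, 0, 3, 1, 1, 1, 0, 0, 1, 1, 0, 0, 0, 0, 0, 3, 1, 2, 0,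
    3, 0, 0, 3, 0, 0, 0, 0, 0, 1, 3, 3, 1, 3, 2, 2, 1, 2, 2, 3, 2, 0, 2, 3, 1, 3, 3, 2, 1, 2, 2, 3, 0, 1, 1, 3,
    0, 1, 3, 1, 3, 3, 0, 0, 2, 3, 1, 1, 3, 3, 3, 1, 1, 1, 1, 1, 0, 0, 3, 1, 0, 3, 1, 0, 0, 1, 0, 3, 0, 3, 0, 3,
    3, 1, 0, 1], [2, 0, 2, 0, 2, 2, 0, 2, 0, 2, 0, 0, 2, 0, 0, 2, 0, 0, 2, 0, 2, 0, 0, 2, 1, 2, 0, 3, 3, 3, 0,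
    1, 2, 0, 2, 3, 2, 1, 2, 3, 0, 3, 3, 3, 0, 2, 1, 2, 0, 1, 1, 3, 1, 0, 0, 2, 2, 2, 2, 2, 2, 0, 0, 0, 0, 0, 0,
    0, 0, 2, 0, 2, 0, 0, 2, 0, 2, 2, 2, 0, 2, 2, 0, 2, 2, 2, 0, 2, 2, 0, 2, 2, 2, 0, 2], [2, 3, 2, 0, 3, 3, 0,
    0, 0, 3, 0, 1, 3, 0, 1, 2, 2, 2, 1, 1, 1, 3, 3, 3, 2, 2, 1, 2, 1, 0, 1, 2, 1, 3, 1, 3, 0, 0, 3, 3, 0, 0, 1,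
    3, 2, 2, 3, 3, 1, 2, 3, 1, 0, 3, 3, 1, 2, 2, 2, 2, 0, 3, 1, 1, 0, 0, 0, 0, 3, 2, 3, 0, 1, 0, 2, 0, 1, 0, 0,
    0, 2, 2, 0, 0, 0, 0, 0, 0, 2, 0, 2, 2, 2, 0, 2], [3, 0, 0, 1, 1, 1, 2, 0, 2, 2, 3, 3, 1, 2, 2, 0, 2, 3, 1,
    0, 0, 0, 0, 0, 3, 1, 2, 0, 3, 2, 0, 1, 1, 2, 0, 1, 1, 1, 2, 0, 0, 1, 3, 0, 2, 1, 2, 0, 3, 0, 2, 0, 2, 3, 1,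
    2, 0, 2, 0, 3, 3, 0, 3, 3, 1, 3, 3, 0, 3, 0, 3, 2, 3, 1, 2, 2, 3, 0, 0, 0, 2, 2, 0, 3, 2, 1, 1, 1, 2, 0, 2,
    2, 2, 0, 2], [1, 1, 3, 0, 1, 1, 1, 2, 3, 0, 2, 2, 0, 0, 0, 3, 1, 2, 2, 2, 3, 0, 3, 0, 3, 3, 3, 3, 3, 3, 3,
    1, 1, 0, 0, 0, 3, 3, 2, 3, 3, 2, 1, 3, 0, 3, 2, 0, 3, 2, 1, 3, 2, 1, 3, 2, 1, 3, 0, 3, 2, 1, 3, 1, 2, 2, 1,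
    3, 0, 0, 1, 2, 1, 1, 1, 0, 0, 2, 2, 0, 3, 1, 0, 0, 2, 0, 2, 0, 3, 0, 3, 3, 1, 0, 1], [3, 0, 0, 1, 2, 2, 3,
    0, 2, 3, 0, 0, 2, 2, 2, 0, 1, 2, 3, 3, 3, 0, 2, 3, 2, 1, 2, 1, 2, 0, 0, 2, 2, 3, 3, 3, 1, 2, 3, 3, 0, 3, 1,
    1, 0, 3, 2, 0, 2, 2, 0, 3, 0, 0, 0, 0, 0, 2, 1, 3, 3, 3, 0, 2, 1, 3, 0, 1, 2, 3, 0, 1, 3, 1, 2, 2, 3, 0, 0,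
    0, 2, 2, 0, 3, 2, 1, 1, 1, 2, 0, 2, 2, 2, 0, 2], [3, 0, 1, 0, 3, 2, 0, 0, 0, 3, 1, 1, 0, 2, 2, 1, 0, 3, 2,
    3, 0, 2, 0, 1, 2, 1, 2, 1, 1, 3, 1, 0, 1, 2, 1, 3, 3, 1, 2, 0, 0, 3, 0, 3, 2, 0, 2, 1, 1, 0, 2, 3, 1, 3, 1,
    0, 3, 3, 0, 2, 0, 3, 0, 0, 2, 2, 3, 0, 3, 0, 2, 1, 2, 0, 1, 2, 3, 1, 3, 0, 3, 1, 0, 3, 1, 1, 2, 1, 3, 0, 3,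
    3, 1, 0, 1], [3, 0, 1, 0, 1, 3, 1, 2, 1, 2, 2, 1, 1, 2, 2, 1, 2, 1, 3, 1, 0, 3, 3, 0, 3, 1, 2, 1, 3, 1, 1,
    1, 3, 3, 3, 1, 3, 1, 3, 3, 0, 3, 1, 2, 0, 2, 1, 1, 3, 3, 2, 3, 3, 1, 1, 1, 3, 3, 1, 2, 0, 3, 0, 2, 2, 2, 0,
    0, 2, 3, 1, 2, 2, 0, 1, 2, 3, 1, 3, 0, 3, 1, 0, 3, 1, 1, 2, 1, 3, 0, 3, 3, 1, 0, 1], [2, 0, 1, 1, 2, 0, 3,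
    0, 2, 2, 2, 1, 1, 0, 0, 1, 2, 3, 1, 3, 0, 0, 3, 2, 2, 2, 0, 2, 0, 0, 0, 2, 1, 0, 1, 3, 0, 3, 3, 2, 0, 2, 3,
    2, 1, 3, 3, 1, 1, 0, 0, 1, 0, 1, 1, 3, 3, 1, 3, 0, 0, 2, 1, 1, 3, 1, 1, 0, 3, 1, 1, 3, 1, 1, 3, 0, 2, 1, 3,
    0, 1, 3, 0, 2, 3, 2, 3, 2, 1, 0, 1, 1, 3, 0, 3], [0, 0, 0, 0, 0, 0, 0, 0, 0, 0, 0, 0, 0, 0, 0, 0, 0, 0, 0,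
    0, 0, 0, 0, 0, 0, 0, 0, 0, 0, 0, 0, 0, 0, 0, 0, 0, 0, 3, 2, 2, 0, 2, 3, 3, 2, 0, 0, 0, 0, 0, 0, 0, 0, 0, 0,
    0, 0, 0, 0, 0, 0, 0, 0, 0, 0, 0, 0, 0, 0, 0, 0, 0, 0, 0, 0, 0, 0, 0, 0, 0, 0, 0, 0, 0, 0, 0, 0, 0, 0, 0, 0,
    0, 0, 0, 0], [0, 0, 0, 0, 0, 0, 0, 0, 0, 0, 0, 0, 0, 0, 0, 0, 0, 0, 0, 0, 0, 0, 0, 0, 0, 0, 0, 0, 0, 0, 0,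
    0, 0, 0, 0, 0, 0, 0, 1, 0, 0, 3, 0, 3, 1, 0, 0, 0, 0, 0, 0, 0, 0, 0, 0, 0, 0, 0, 0, 0, 0, 0, 0, 0, 0, 0, 0,
    0, 0, 0, 0, 0, 0, 0, 0, 0, 0, 0, 0, 0, 0, 0, 0, 0, 0, 0, 0, 0, 0, 0, 0, 0, 0, 0, 0], [0, 3, 0, 2, 0, 3, 2,
    3, 2, 3, 2, 1, 1, 2, 1, 0, 0, 3, 1, 2, 2, 0, 2, 0, 1, 2, 1, 3, 3, 3, 0, 3, 1, 0, 3, 0, 2, 1, 3, 2, 0, 3, 1,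
    1, 1, 3, 2, 0, 0, 0, 3, 2, 1, 2, 0, 3, 0, 2, 0, 0, 3, 0, 0, 2, 2, 2, 0, 0, 2, 2, 1, 1, 2, 2, 2, 2, 0, 3, 1,
    0, 2, 2, 0, 1, 2, 3, 3, 3, 2, 0, 0, 2, 0, 0, 2], [1, 0, 3, 0, 3, 3, 1, 3, 0, 1, 0, 1, 1, 2, 2, 3, 2, 2, 0,
    2, 1, 3, 1, 2, 0, 3, 2, 0, 2, 0, 3, 2, 3, 0, 3, 3, 1, 0, 3, 3, 0, 3, 1, 0, 2, 2, 1, 0, 3, 1, 0, 0, 0, 2, 0,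
    1, 1, 1, 2, 3, 0, 2, 3, 3, 2, 2, 3, 0, 3, 2, 2, 3, 2, 0, 3, 2, 1, 3, 1, 0, 1, 3, 0, 1, 3, 3, 2, 3, 1, 0, 1,
    1, 3, 0, 3], [0, 0, 0, 0, 1, 3, 2, 2, 0, 2, 1, 3, 1, 0, 0, 0, 1, 2, 3, 1, 3, 1, 2, 1, 3, 0, 0, 3, 0, 0, 1,
    2, 1, 2, 1, 1, 0, 2, 2, 3, 0, 0, 2, 2, 0, 0, 2, 0, 3, 1, 1, 0, 0, 2, 2, 2, 0, 0, 3, 2, 1, 2, 3, 3, 0, 0, 3,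
    3, 1, 1, 3, 1, 0, 0, 0, 0, 0, 0, 0, 0, 0, 0, 0, 0, 0, 0, 0, 0, 0, 0, 0, 0, 0, 0, 0], [0, 0, 3, 1, 0, 0, 1,
    3, 2, 3, 3, 2, 2, 0, 0, 3, 0, 1, 3, 2, 1, 1, 3, 0, 2, 0, 0, 1, 1, 3, 1, 3, 0, 2, 3, 0, 2, 1, 2, 1, 0, 1, 2,
    1, 1, 3, 0, 0, 0, 2, 1, 0, 1, 1, 1, 3, 1, 3, 0, 2, 1, 2, 0, 0, 3, 1, 0, 0, 0, 0, 1, 1, 1, 1, 1, 0, 0, 3, 1,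
    0, 3, 1, 0, 0, 1, 0, 3, 0, 3, 0, 3, 3, 1, 0, 1], [1, 0, 3, 0, 0, 3, 1, 0, 2, 1, 0, 0, 2, 2, 2, 3, 0, 3, 0,
    0, 3, 3, 0, 2, 1, 3, 2, 1, 1, 2, 1, 2, 3, 3, 1, 0, 1, 0, 1, 2, 0, 3, 1, 1, 0, 0, 0, 2, 3, 2, 1, 3, 2, 3, 3,
    3, 1, 1, 3, 2, 0, 1, 0, 2, 2, 2, 0, 1, 2, 1, 3, 2, 2, 0, 3, 2, 1, 3, 1, 0, 1, 3, 0, 1, 3, 3, 2, 3, 1, 0, 1,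
    1, 3, 0, 3], [0, 0, 0, 0, 1, 1, 0, 2, 0, 3, 2, 0, 3, 0, 0, 0, 2, 1, 2, 3, 3, 3, 1, 0, 0, 0, 0, 0, 2, 1, 2,
    1, 1, 2, 3, 3, 0, 3, 1, 0, 0, 1, 1, 0, 2, 0, 1, 2, 0, 3, 3, 2, 3, 3, 1, 0, 0, 0, 0, 1, 1, 1, 0, 2, 0, 0, 0,
    0, 0, 0, 0, 0, 0, 0, 0, 0, 0, 0, 0, 0, 0, 0, 0, 0, 0, 0, 0, 0, 0, 0, 0, 0, 0, 0, 0], [0, 0, 0, 0, 0, 0, 0,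
    0, 0, 0, 0, 0, 0, 0, 0, 0, 0, 0, 0, 0, 0, 0, 0, 0, 0, 0, 0, 0, 0, 0, 0, 0, 0, 0, 0, 0, 0, 0, 0, 0, 0, 1, 0,
    0, 0, 0, 0, 0, 0, 0, 0, 0, 0, 0, 0, 0, 0, 0, 0, 0, 0, 0, 0, 0, 0, 0, 0, 0, 0, 0, 0, 0, 0, 0, 0, 0, 0, 0, 0,
    0, 0, 0, 0, 0, 0, 0, 0, 0, 0, 0, 0, 0, 0, 0, 0], [0, 0, 0, 0, 0, 0, 0, 0, 0, 0, 0, 0, 0, 0, 0, 0, 0, 0, 0,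
    0, 0, 0, 0, 0, 0, 0, 0, 0, 0, 0, 0, 0, 0, 0, 0, 0, 0, 0, 0, 0, 0, 3, 0, 0, 1, 0, 0, 0, 0, 0, 0, 0, 0, 0, 0,
    0, 0, 0, 0, 0, 0, 0, 0, 0, 0, 0, 0, 0, 0, 0, 0, 0, 0, 0, 0, 0, 0, 0, 0, 0, 0, 0, 0, 0, 0, 0, 0, 0, 0, 0, 0,
    0, 0, 0, 0], [1, 1, 3, 1, 2, 1, 2, 3, 2, 3, 2, 0, 2, 2, 2, 3, 1, 3, 2, 2, 2, 3, 1, 2, 0, 3, 0, 3, 2, 2, 2,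
    0, 0, 1, 2, 1, 3, 0, 2, 2, 3, 1, 3, 3, 0, 1, 0, 3, 2, 1, 3, 2, 3, 1, 3, 0, 1, 1, 2, 0, 2, 1, 0, 0, 1, 3, 2,
    0, 0, 1, 1, 1, 1, 3, 3, 2, 2, 1, 3, 0, 1, 0, 0, 3, 2, 1, 1, 1, 1, 0, 1, 0, 0, 0, 3], [0, 0, 0, 0, 2, 2, 2,
    1, 2, 3, 3, 2, 0, 0, 0, 0, 1, 1, 1, 1, 0, 0, 2, 1, 2, 0, 0, 3, 0, 1, 1, 3, 0, 2, 1, 0, 0, 0, 2, 1, 0, 1, 0,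
    1, 3, 0, 0, 1, 1, 2, 0, 0, 3, 2, 2, 2, 0, 0, 3, 1, 1, 2, 3, 3, 0, 0, 3, 3, 1, 1, 3, 2, 0, 0, 0, 0, 0, 0, 0,
    0, 0, 0, 0, 0, 0, 0, 0, 0, 0, 0, 0, 0, 0, 0, 0], [1, 0, 2, 1, 1, 3, 1, 1, 3, 3, 0, 0, 2, 2, 2, 2, 2, 0, 0,
    0, 0, 1, 0, 2, 0, 3, 2, 1, 3, 1, 0, 3, 1, 2, 0, 2, 3, 0, 3, 3, 0, 0, 3, 0, 2, 1, 3, 3, 3, 0, 0, 0, 3, 0, 2,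
    3, 2, 0, 2, 2, 1, 1, 2, 2, 1, 3, 3, 0, 3, 2, 3, 0, 3, 1, 0, 2, 1, 2, 2, 0, 0, 0, 0, 1, 0, 3, 1, 3, 0, 0, 0,
    0, 0, 0, 0], [0, 0, 3, 1, 1, 0, 0, 3, 0, 3, 3, 3, 0, 0, 0, 3, 2, 0, 0, 3, 0, 0, 1, 2, 2, 0, 0, 1, 3, 0, 1,
    0, 0, 1, 1, 0, 2, 1, 1, 2, 0, 0, 2, 1, 0, 1, 3, 1, 2, 0, 1, 0, 0, 1, 1, 1, 1, 3, 3, 2, 0, 2, 3, 3, 3, 1, 3,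
    0, 1, 1, 2, 3, 1, 1, 1, 0, 0, 3, 1, 0, 3, 1, 0, 0, 1, 0, 3, 0, 3, 0, 3, 3, 1, 0, 1], [0, 0, 0, 0, 3, 1, 1,
    2, 3, 3, 2, 1, 2, 0, 0, 0, 0, 0, 2, 2, 2, 0, 2, 3, 1, 0, 0, 0, 0, 3, 0, 3, 1, 0, 3, 0, 0, 2, 1, 3, 0, 3, 1,
    3, 0, 0, 1, 0, 2, 3, 3, 0, 1, 2, 0, 1, 0, 0, 0, 0, 1, 0, 1, 3, 0, 0, 0, 0, 0, 0, 0, 0, 0, 0, 0, 0, 0, 0, 0,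
    0, 0, 0, 0, 0, 0, 0, 0, 0, 0, 0, 0, 0, 0, 0, 0], [0, 0, 0, 0, 0, 0, 0, 0, 0, 0, 0, 0, 0, 0, 0, 0, 0, 0, 0,
    0, 0, 0, 0, 0, 0, 0, 0, 0, 0, 0, 0, 0, 0, 0, 0, 0, 0, 0, 0, 0, 0, 0, 0, 0, 0, 0, 1, 0, 0, 0, 0, 0, 0, 0, 0,
    0, 0, 0, 0, 0, 0, 0, 0, 0, 0, 0, 0, 0, 0, 0, 0, 0, 0, 0, 0, 0, 0, 0, 0, 0, 0, 0, 0, 0, 0, 0, 0, 0, 0, 0, 0,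
    0, 0, 0, 0], [0, 0, 0, 0, 0, 0, 0, 0, 0, 0, 0, 0, 0, 0, 0, 0, 0, 0, 0, 0, 0, 0, 0, 0, 0, 0, 0, 0, 0, 0, 0,
    0, 0, 0, 0, 0, 0, 0, 0, 0, 0, 2, 3, 3, 2, 0, 0, 1, 0, 0, 0, 0, 0, 0, 0, 0, 0, 0, 0, 0, 0, 0, 0, 0, 0, 0, 0,
    0, 0, 0, 0, 0, 0, 0, 0, 0, 0, 0, 0, 0, 0, 0, 0, 0, 0, 0, 0, 0, 0, 0, 0, 0, 0, 0, 0], [2, 2, 2, 0, 3, 2, 1,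
    2, 0, 1, 1, 0, 2, 0, 0, 2, 3, 3, 0, 3, 1, 0, 2, 3, 1, 0, 0, 1, 2, 0, 1, 2, 1, 2, 1, 1, 0, 1, 3, 2, 0, 0, 1,
    0, 2, 1, 2, 1, 1, 0, 3, 1, 0, 1, 1, 3, 2, 2, 3, 2, 3, 3, 0, 0, 0, 0, 3, 1, 1, 1, 3, 3, 3, 1, 2, 0, 0, 2, 2,
    0, 2, 0, 0, 0, 2, 0, 2, 0, 2, 0, 0, 0, 2, 0, 2], [0, 0, 0, 0, 2, 3, 3, 0, 0, 0, 0, 0, 2, 0, 0, 0, 3, 1, 0,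
    2, 3, 2, 1, 2, 3, 0, 0, 3, 2, 1, 3, 3, 2, 0, 1, 0, 0, 2, 0, 1, 0, 0, 3, 2, 3, 2, 1, 3, 0, 0, 0, 0, 3, 2, 2,
    2, 0, 0, 3, 2, 1, 2, 3, 3, 0, 0, 3, 3, 1, 1, 3, 2, 0, 0, 0, 0, 0, 0, 0, 0, 0, 0, 0, 0, 0, 0, 0, 0, 0, 0, 0,
    0, 0, 0, 0], [0, 0, 0, 0, 3, 1, 1, 2, 3, 3, 1, 2, 2, 0, 0, 0, 0, 0, 2, 2, 2, 0, 2, 0, 2, 0, 0, 0, 0, 3, 0,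
    3, 1, 0, 1, 1, 0, 3, 1, 0, 0, 0, 3, 1, 0, 0, 3, 2, 1, 2, 3, 0, 1, 0, 0, 0, 0, 0, 0, 0, 0, 0, 0, 0, 0, 0, 0,
    0, 0, 0, 0, 3, 0, 0, 0, 0, 0, 0, 0, 0, 0, 0, 0, 0, 0, 0, 0, 0, 0, 0, 0, 0, 0, 0, 0], [0, 0, 0, 0, 0, 0, 0,
    0, 0, 0, 0, 0, 0, 0, 0, 0, 0, 0, 0, 0, 0, 0, 0, 0, 0, 0, 0, 0, 0, 0, 0, 0, 0, 0, 3, 1, 0, 1, 0, 0, 0, 1, 0,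
    0, 0, 0, 1, 0, 3, 3, 3, 0, 0, 0, 0, 0, 0, 0, 0, 3, 0, 0, 0, 0, 0, 0, 0, 0, 0, 0, 0, 0, 0, 0, 0, 0, 0, 0, 0,
    0, 0, 0, 0, 0, 0, 0, 0, 0, 0, 0, 0, 0, 0, 0, 0], [0, 0, 0, 0, 0, 0, 0, 0, 0, 0, 0, 0, 0, 0, 0, 0, 0, 0, 0,
    0, 0, 0, 0, 0, 0, 0, 0, 0, 0, 0, 0, 0, 0, 0, 0, 0, 0, 3, 3, 1, 0, 1, 0, 1, 3, 0, 0, 0, 1, 1, 0, 0, 0, 0, 0,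
    0, 0, 0, 0, 0, 0, 0, 0, 0, 0, 0, 0, 0, 0, 0, 0, 0, 0, 0, 0, 0, 0, 0, 0, 0, 0, 0, 0, 0, 0, 0, 0, 0, 0, 0, 0,
    0, 0, 0, 0], [0, 0, 0, 0, 0, 0, 0, 0, 0, 0, 0, 0, 0, 0, 0, 0, 0, 0, 0, 0, 0, 0, 0, 0, 0, 0, 0, 0, 0, 0, 0,
    0, 0, 0, 1, 3, 0, 0, 1, 3, 0, 2, 0, 3, 1, 0, 3, 0, 0, 0, 1, 0, 0, 0, 0, 0, 0, 0, 0, 0, 0, 0, 0, 0, 0, 0, 0,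
    0, 0, 0, 0, 0, 0, 0, 0, 0, 0, 0, 0, 0, 0, 0, 0, 0, 0, 0, 0, 0, 0, 0, 0, 0, 0, 0, 0], [2, 0, 3, 3, 0, 1, 1,
    0, 2, 1, 0, 1, 2, 0, 0, 3, 3, 3, 3, 3, 1, 2, 1, 1, 3, 0, 2, 2, 3, 0, 3, 3, 0, 1, 2, 0, 2, 2, 2, 0, 3, 1, 2,
    2, 0, 2, 3, 2, 2, 1, 0, 0, 1, 0, 2, 1, 1, 3, 3, 3, 1, 3, 3, 1, 1, 3, 3, 1, 3, 1, 0, 1, 2, 0, 1, 0, 3, 1, 3,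
    0, 3, 3, 0, 2, 1, 2, 1, 2, 3, 0, 1, 1, 1, 0, 1], [0, 0, 3, 1, 2, 3, 0, 3, 2, 3, 3, 3, 1, 0, 0, 3, 2, 0, 2,
    1, 2, 2, 3, 0, 2, 0, 0, 0, 2, 0, 3, 2, 1, 3, 1, 2, 2, 0, 3, 3, 0, 1, 2, 0, 3, 1, 0, 0, 3, 0, 3, 1, 0, 3, 3,
    1, 1, 3, 3, 0, 2, 0, 3, 3, 3, 1, 3, 3, 1, 1, 0, 3, 1, 1, 1, 0, 0, 3, 1, 0, 3, 1, 0, 0, 1, 0, 3, 0, 3, 0, 3,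
    3, 1, 0, 1], [0, 0, 0, 0, 0, 0, 0, 0, 0, 0, 0, 0, 0, 0, 0, 0, 0, 0, 0, 0, 0, 0, 0, 0, 0, 0, 0, 0, 0, 0, 0,
    0, 0, 0, 3, 0, 0, 0, 0, 1, 0, 2, 3, 3, 3, 0, 1, 1, 0, 0, 0, 0, 0, 2, 0, 3, 0, 0, 0, 0, 3, 0, 3, 1, 0, 0, 0,
    0, 0, 0, 0, 0, 0, 0, 0, 0, 0, 0, 0, 0, 0, 0, 0, 0, 0, 0, 0, 0, 0, 0, 0, 0, 0, 0, 0], [0, 0, 0, 0, 0, 0, 0,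
    0, 0, 0, 0, 0, 0, 0, 0, 0, 0, 0, 0, 0, 0, 0, 0, 0, 0, 0, 0, 0, 0, 0, 0, 0, 0, 0, 1, 3, 0, 1, 2, 2, 0, 0, 0,
    1, 3, 0, 3, 0, 0, 0, 0, 0, 0, 0, 0, 0, 0, 0, 0, 0, 0, 0, 0, 0, 0, 0, 0, 0, 0, 0, 0, 0, 0, 0, 0, 0, 0, 0, 0,
    0, 0, 0, 0, 0, 0, 0, 0, 0, 0, 0, 0, 0, 0, 0, 0], [0, 0, 0, 0, 0, 0, 0, 0, 0, 0, 0, 0, 0, 0, 0, 0, 0, 0, 0,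
    0, 0, 0, 0, 0, 0, 0, 0, 0, 0, 0, 0, 0, 0, 0, 0, 1, 0, 3, 2, 1, 0, 2, 1, 0, 2, 0, 0, 3, 0, 0, 0, 0, 0, 0, 0,
    0, 0, 0, 0, 0, 0, 0, 0, 0, 0, 0, 0, 0, 0, 0, 0, 0, 0, 0, 0, 0, 0, 0, 0, 0, 0, 0, 0, 0, 0, 0, 0, 0, 0, 0, 0,
    0, 0, 0, 0], [2, 2, 1, 3, 3, 0, 2, 0, 2, 3, 0, 3, 3, 0, 0, 1, 2, 2, 2, 1, 0, 3, 3, 2, 0, 0, 0, 3, 3, 0, 0,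
    2, 1, 0, 1, 0, 0, 1, 3, 2, 0, 0, 3, 1, 1, 3, 1, 3, 2, 0, 3, 2, 0, 0, 0, 2, 3, 1, 1, 3, 0, 3, 2, 2, 1, 3, 3,
    0, 2, 1, 2, 3, 2, 2, 3, 0, 0, 1, 3, 0, 1, 3, 0, 0, 1, 0, 3, 0, 1, 0, 3, 1, 1, 0, 3], [0, 0, 0, 0, 3, 2, 2,
    2, 1, 0, 2, 0, 1, 0, 0, 0, 1, 2, 0, 0, 0, 1, 0, 1, 3, 0, 0, 0, 1, 3, 1, 3, 2, 3, 3, 2, 0, 2, 1, 0, 0, 0, 2,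
    1, 3, 2, 2, 1, 0, 3, 0, 1, 1, 3, 3, 1, 0, 0, 0, 0, 0, 3, 1, 1, 0, 0, 0, 0, 0, 0, 0, 0, 0, 0, 0, 0, 0, 0, 0,
    0, 0, 0, 0, 0, 0, 0, 0, 0, 0, 0, 0, 0, 0, 0, 0], [0, 0, 0, 0, 0, 0, 0, 0, 0, 0, 0, 0, 0, 0, 0, 0, 0, 0, 0,
    0, 0, 0, 0, 1, 0, 0, 0, 0, 0, 0, 0, 0, 0, 0, 3, 1, 0, 0, 3, 1, 0, 2, 0, 2, 2, 0, 1, 0, 3, 3, 0, 0, 0, 0, 0,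
    0, 0, 0, 0, 0, 0, 0, 0, 0, 0, 0, 0, 0, 0, 0, 0, 0, 0, 0, 0, 0, 0, 0, 0, 0, 0, 0, 0, 0, 0, 0, 0, 0, 0, 0, 0,
    0, 0, 0, 0], [0, 0, 0, 0, 0, 0, 0, 0, 0, 0, 0, 0, 0, 0, 0, 0, 0, 0, 0, 0, 0, 0, 0, 0, 1, 0, 0, 0, 0, 0, 0,
    0, 0, 0, 3, 0, 0, 1, 1, 0, 0, 1, 3, 1, 0, 0, 1, 1, 0, 0, 3, 0, 0, 0, 0, 0, 0, 0, 0, 0, 0, 0, 0, 0, 0, 0, 0,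
    0, 0, 0, 0, 0, 0, 0, 0, 0, 0, 0, 0, 0, 0, 0, 0, 0, 0, 0, 0, 0, 0, 0, 0, 0, 0, 0, 0], [0, 2, 2, 2, 1, 3, 1,
    0, 1, 3, 0, 1, 3, 0, 0, 2, 0, 2, 0, 0, 2, 0, 0, 3, 3, 2, 0, 2, 0, 1, 2, 1, 1, 0, 1, 0, 2, 0, 1, 3, 0, 0, 2,
    1, 1, 1, 3, 0, 0, 3, 1, 3, 3, 0, 2, 3, 2, 2, 2, 0, 1, 0, 3, 3, 2, 2, 0, 0, 0, 2, 0, 0, 0, 3, 2, 0, 2, 2, 2,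
    0, 2, 0, 0, 2, 2, 2, 0, 2, 2, 0, 0, 0, 2, 0, 2], [0, 0, 0, 0, 0, 0, 0, 0, 0, 0, 0, 1, 0, 0, 0, 0, 0, 0, 0,
    0, 0, 0, 0, 0, 0, 0, 0, 0, 0, 0, 0, 0, 0, 0, 3, 1, 0, 0, 3, 1, 0, 2, 0, 1, 3, 0, 0, 0, 0, 0, 0, 0, 0, 0, 0,
    0, 0, 0, 0, 0, 0, 0, 0, 0, 0, 0, 0, 0, 0, 0, 0, 0, 0, 0, 0, 0, 0, 0, 0, 0, 0, 0, 0, 0, 0, 0, 0, 0, 0, 0, 0,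
    0, 0, 0, 0], [0, 0, 0, 0, 0, 0, 0, 0, 0, 0, 0, 0, 1, 0, 0, 0, 0, 0, 0, 0, 0, 0, 0, 0, 0, 0, 0, 0, 0, 0, 0,
    0, 0, 0, 0, 3, 0, 1, 2, 3, 0, 0, 0, 1, 0, 0, 0, 0, 0, 0, 0, 0, 0, 0, 0, 0, 0, 0, 0, 0, 0, 0, 0, 0, 0, 0, 0,
    0, 0, 0, 0, 0, 0, 0, 0, 0, 0, 0, 0, 0, 0, 0, 0, 0, 0, 0, 0, 0, 0, 0, 0, 0, 0, 0, 0], [2, 0, 2, 0, 3, 2, 2,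
    0, 1, 0, 2, 2, 2, 0, 0, 2, 3, 2, 0, 2, 0, 3, 2, 2, 3, 2, 0, 3, 2, 0, 3, 2, 0, 1, 3, 3, 2, 1, 1, 1, 0, 3, 2,
    1, 0, 2, 1, 0, 1, 2, 2, 0, 0, 1, 1, 1, 2, 2, 2, 2, 2, 1, 3, 3, 0, 0, 0, 3, 0, 2, 0, 2, 0, 0, 2, 0, 2, 2, 2,
    0, 2, 2, 0, 2, 2, 2, 0, 2, 2, 0, 2, 2, 2, 0, 2], [0, 0, 0, 0, 0, 0, 0, 0, 0, 0, 0, 0, 0, 0, 0, 0, 0, 0, 0,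
    0, 0, 0, 0, 0, 0, 0, 0, 0, 0, 0, 0, 0, 0, 0, 0, 0, 0, 1, 1, 3, 0, 2, 0, 2, 2, 0, 0, 0, 0, 0, 0, 0, 0, 0, 0,
    0, 0, 0, 0, 0, 0, 0, 0, 0, 0, 0, 0, 0, 0, 0, 0, 0, 0, 0, 0, 0, 0, 0, 0, 0, 0, 0, 0, 0, 0, 0, 0, 0, 0, 0, 0,
    0, 0, 0, 0], [0, 0, 2, 2, 1, 1, 0, 2, 2, 3, 2, 1, 0, 0, 0, 2, 1, 2, 3, 3, 3, 3, 1, 3, 0, 0, 0, 1, 2, 2, 1,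
    0, 0, 3, 0, 2, 0, 3, 2, 2, 0, 0, 2, 2, 1, 2, 1, 1, 1, 1, 2, 0, 2, 1, 1, 1, 2, 2, 2, 2, 2, 3, 1, 1, 2, 2, 2,
    3, 2, 2, 2, 2, 2, 2, 2, 0, 0, 2, 2, 0, 2, 2, 0, 0, 2, 0, 2, 0, 2, 0, 2, 2, 2, 0, 2]]⟩

/-- The residual element. -/
def res : List ℕ :=
  [4]

/-- The multiples of the residual element. -/
def mult : List ℕ :=
  [3, 0, 0, 0, 3, 1, 2, 0, 0, 1, 0, 0, 0, 3, 0, 1, 0, 0, 3, 0, 3, 3, 0, 0, 0, 3, 3, 0, 0, 1, 0, 1, 1, 0, 0, 0,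
    1, 3, 0, 3, 3, 3, 2, 1, 3, 2, 3, 2, 3, 2, 3, 3, 1, 0, 0, 3, 1, 0, 3, 1, 0, 0, 0, 3, 0, 0, 3, 0, 0, 0, 2, 0,
    0, 0, 0, 0, 1, 3, 0, 0, 0, 1, 0, 0, 0, 2, 0, 0, 2, 0, 2]

/-- The multiple of the residual element that vanishes. -/
def tor : List ℕ :=
  [2, 0, 2, 0, 1, 0, 0, 0, 3, 2, 2, 0, 2, 0, 0, 2, 1, 2, 2, 0, 2, 1, 0, 0, 3, 2, 0, 1, 2, 0, 1, 2, 0, 3, 1, 1,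
    0, 0, 0, 2, 0, 2, 0, 0, 1, 2, 3, 0, 3, 1, 2, 0, 0, 1, 1, 3, 2, 2, 2, 2, 0, 3, 1, 3, 0, 0, 0, 1, 0, 2, 0, 2,
    0, 2, 2, 0, 2, 2, 2, 0, 2, 2, 0, 2, 2, 2, 0, 2, 2, 0, 2, 2, 2, 0, 2]

/-- The data. -/
def D : Pts.Data where
  C := C
  gc := [Elems.p2q0, Elems.p2q1, Elems.p2q2, Elems.p2q3, Elems.p2q4, Elems.p2q5, Elems.p2q6, Elems.p2q7, Elems.p2q8, Elems.p2q9, Elems.p2q10, Elems.p2q11, Elems.p2q12]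
  hc := [Elems.p2q13, Elems.p2q14, Elems.p2q15, Elems.p2q16, Elems.p2q17]
  base := [0, 1, 2, 3, 4, 8, 14]
  orbs :=
    [(17, [17, 879]), (0, [0, 2, 10, 14, 16, 22, 30, 36, 38, 48, 49, 74, 76, 82, 86, 100, 105, 121, 125, 134,
      142, 146, 147, 153, 157, 159, 163, 170, 191, 193, 209, 212, 215, 218, 223, 225, 227, 233, 237, 241, 246,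
      248, 251, 271, 297, 306, 315, 327, 328, 332, 336, 338, 339, 346, 348, 349, 354, 365, 377, 381, 382, 390,
      391, 397, 400, 405, 406, 423, 424, 432, 433, 434, 442, 458, 461, 463, 479, 506, 535, 538, 541, 549, 559,
      562, 565, 566, 581, 600, 609, 618, 636, 639, 641, 643, 659, 663, 676, 706, 712, 716, 731, 734, 749, 758,
      775, 776, 799, 802, 809, 816, 820, 823, 834, 836, 847, 863, 867, 868, 874, 881, 885, 898, 902, 913, 921,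
      928, 931, 936, 937, 949, 974, 976, 981, 988, 996, 998, 1002, 1006, 1010, 1016, 1019, 1027, 1031, 1033,
      1035, 1060, 1062, 1067, 1080, 1093, 1099, 1100, 1118, 1131, 1138, 1139, 1144, 1145, 1158, 1161, 1178,
      1183, 1186, 1189, 1192, 1203, 1210, 1216, 1218, 1222, 1223, 1233, 1253, 1275, 1278, 1283, 1285, 1293,
      1298, 1312, 1325, 1330, 1336, 1344, 1374, 1375, 1390, 1398, 1403, 1408, 1409, 1414, 1418, 1423, 1424,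
      1434, 1447, 1449, 1452, 1458, 1459, 1463, 1464, 1465, 1468, 1470, 1498, 1502, 1506, 1516, 1518, 1525,
      1533, 1534, 1535, 1539, 1542, 1557, 1562, 1569, 1570, 1575, 1582, 1590, 1593, 1594, 1609, 1616, 1645,
      1646, 1650, 1655, 1663, 1665, 1670, 1678, 1685, 1686, 1687, 1688, 1691, 1693, 1706, 1721, 1723, 1727,
      1729, 1730, 1735, 1756, 1759, 1760, 1763, 1770, 1775, 1778]), (102, [102, 810, 813, 946, 1061, 1377,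
      1494, 1731]), (226, [226]), (17, [17]), (69, [69, 158, 269, 411, 661, 704, 1143, 1481]), (69, [69, 158,
      269, 411]), (0, [0, 2, 10, 125, 134, 227, 251, 406, 716, 816, 902, 988, 998, 1016, 1138, 1145, 1186,
      1344, 1449, 1468, 1533, 1542, 1557, 1570, 1575, 1590, 1609, 1645, 1650, 1686, 1688, 1730]), (69, [69,
      411]), (1, [1, 156, 238, 372]), (102, [102]), (69, [69]), (0, [0])]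

theorem gc : Pts.RealsL φ D.gc := (Pts.RealsL.cons φ real_p2q0 (Pts.RealsL.cons φ real_p2q1 (Pts.RealsL.cons φ real_p2q2 (Pts.RealsL.cons φ real_p2q3 (Pts.RealsL.cons φ real_p2q4 (Pts.RealsL.cons φ real_p2q5 (Pts.RealsL.cons φ real_p2q6 (Pts.RealsL.cons φ real_p2q7 (Pts.RealsL.cons φ real_p2q8 (Pts.RealsL.cons φ real_p2q9 (Pts.RealsL.cons φ real_p2q10 (Pts.RealsL.cons φ real_p2q11 (Pts.RealsL.cons φ real_p2q12 (Pts.RealsL.nil φ))))))))))))))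

theorem hc : Pts.RealsL φ D.hc := (Pts.RealsL.cons φ real_p2q13 (Pts.RealsL.cons φ real_p2q14 (Pts.RealsL.cons φ real_p2q15 (Pts.RealsL.cons φ real_p2q16 (Pts.RealsL.cons φ real_p2q17 (Pts.RealsL.nil φ))))))

theorem cert : checkM C (vecOps 4) 4 res mult tor 2 = true := by decide +kernel

theorem shape : D.checkShape = true := by decide +kernel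

theorem rules : D.checkRules = true := by decide +kernel

theorem fus : D.checkFus = true := by decide +kernel

theorem news : D.checkNew 1782 = true := by decide +kernel

end Cfsg.Agent.Lib.SuzMult.P2
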