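import Cfsg.Agent.Lib.PcMult.Pts.Check
import Cfsg.Agent.Lib.PcMult.Bounded
import Cfsg.Agent.Lib.SuzMult.Steps

/-!
Certificate for the prime 3.
-/

set_option autoImplicit false
set_option maxRecDepth 100000

namespace Cfsg.Agent.Lib.SuzMult.P3

open Cfsg.Agent.InvChar.Coset Cfsg.Agent.Lib.PcMult

/-- The presentation. -/
def R : Pres :=
  ⟨3, 7, [[0, 0, 0, 0, 0, 0, 0], [0, 0, 0, 0, 0, 0, 0], [0, 0, 0, 0, 0, 0, 0], [0, 0, 0, 0, 0, 0, 0], [0, 0, 0,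
    0, 0, 0, 0], [0, 0, 0, 0, 0, 0, 0], [0, 0, 0, 0, 0, 0, 0]], [[[], [0, 1, 0, 0, 0, 2, 0], [0, 0, 1, 2, 1, 0,
    0], [0, 0, 0, 1, 0, 2, 0], [0, 0, 0, 0, 1, 0, 1], [0, 0, 0, 0, 0, 1, 0], [0, 0, 0, 0, 0, 0, 1]], [[], [],
    [0, 0, 1, 1, 1, 0, 0], [0, 0, 0, 1, 0, 2, 2], [0, 0, 0, 0, 1, 1, 0], [0, 0, 0, 0, 0, 1, 0], [0, 0, 0, 0, 0,
    0, 1]], [[], [], [], [0, 0, 0, 1, 0, 0, 0], [0, 0, 0, 0, 1, 0, 0], [0, 0, 0, 0, 0, 1, 0], [0, 0, 0, 0, 0,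
    0, 1]], [[], [], [], [], [0, 0, 0, 0, 1, 0, 0], [0, 0, 0, 0, 0, 1, 0], [0, 0, 0, 0, 0, 0, 1]], [[], [], [],
    [], [], [0, 0, 0, 0, 0, 1, 0], [0, 0, 0, 0, 0, 0, 1]], [[], [], [], [], [], [], [0, 0, 0, 0, 0, 0, 1]],
    [[], [], [], [], [], [], []]]⟩

/-- Overlaps. -/
def ovl : List (List ℕ × List ℕ × List ℕ) :=
  [([1, 1], [1, 0], []), ([1], [0, 0, 0], []), ([2], [1, 0], []), ([3], [1, 0], []), ([4], [1, 0], []), ([6],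
    [1, 0], []), ([2, 2], [2, 0], []), ([2], [0, 0, 0], []), ([3], [2, 0], []), ([4], [2, 0], []), ([5], [2,
    0], []), ([6], [2, 0], []), ([3, 3], [3, 0], []), ([3], [0, 0, 0], []), ([4], [3, 0], []), ([4, 4], [4, 0],
    []), ([2, 2], [2, 1], []), ([2], [1, 1, 1], []), ([3], [2, 1], []), ([4], [2, 1], []), ([3, 3], [3, 1],
    [])]

/-- Conjugations. -/
def fusion : List Fus :=
  [([([5], [5, 5]), ([2, 2, 3, 3, 4, 5, 6], [2, 3, 4, 5, 6])], [([1, 1, 1], [])]), ([([5], [5]), ([3], [0, 0,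
    3, 4, 5, 5, 6, 6]), ([2], [0, 0, 1, 1, 3, 3, 5, 6, 6]), ([2, 3, 4, 4, 5, 6], [1, 3, 3, 4, 5, 5, 6])], [([1,
    1, 1], []), ([2, 1], [1, 2]), ([3, 1], [1, 3]), ([2, 2, 2], []), ([3, 2], [2, 3])])]

/-- The certificate. -/
def C : Cert :=
  ⟨R, ovl, fusion, [[1, 1, 1, 1, 2, 2, 4, 4, 9, 9, 9, 9, 9, 9, 9, 9, 82, 82, 82, 82, 82, 82, 82, 82], [1, 2, 2,
    2, 2, 2, 2, 2, 9, 9, 9, 9, 9, 9, 9, 50, 82, 83, 83, 83, 83, 83, 83, 83, 83], [2, 2, 9, 9, 9, 9, 9, 9, 9,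
    50, 50], [2, 9, 9, 9, 9, 9, 9, 9, 9], [2, 2, 2, 2, 2, 2, 2, 2, 9, 9], [1, 1, 1, 1, 1], [4]], [[0, 0, 0, 6,
    2, 1, 7, 2, 8, 3, 5, 7, 2, 0, 2, 8, 6, 7, 6, 5, 3, 0, 5, 6, 6, 0, 6], [0, 0, 0, 0, 0, 0, 0, 0, 0, 0, 0, 0,
    0, 0, 0, 0, 0, 0, 0, 0, 0, 0, 0, 0, 0, 0, 0], [0, 0, 0, 0, 0, 0, 0, 0, 0, 0, 0, 0, 0, 0, 0, 0, 0, 0, 0, 0,
    0, 0, 0, 0, 0, 0, 0], [0, 0, 7, 3, 2, 0, 7, 7, 4, 8, 5, 6, 4, 0, 7, 7, 8, 8, 5, 5, 5, 0, 0, 5, 4, 0, 0],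
    [0, 0, 0, 0, 0, 0, 0, 0, 0, 0, 0, 0, 0, 0, 0, 0, 0, 0, 0, 0, 0, 0, 0, 0, 0, 0, 0], [3, 0, 3, 6, 8, 6, 6, 6,
    4, 6, 3, 1, 4, 0, 6, 7, 7, 7, 0, 4, 8, 0, 0, 0, 3, 0, 6], [3, 0, 6, 6, 1, 0, 5, 5, 8, 0, 8, 1, 4, 0, 2, 7,
    8, 8, 3, 5, 7, 0, 0, 0, 3, 0, 6], [0, 0, 6, 8, 2, 3, 6, 8, 5, 6, 2, 0, 0, 0, 7, 0, 3, 5, 0, 8, 1, 4, 4, 3,
    3, 5, 3], [0, 0, 0, 0, 0, 0, 0, 0, 0, 0, 0, 0, 0, 0, 0, 0, 0, 0, 0, 0, 0, 0, 0, 0, 0, 0, 0], [6, 0, 7, 6,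
    4, 2, 5, 5, 1, 7, 7, 1, 5, 0, 8, 2, 7, 7, 1, 1, 6, 0, 0, 1, 8, 0, 0], [0, 0, 0, 0, 0, 0, 0, 0, 0, 0, 0, 0,
    0, 0, 0, 0, 0, 0, 0, 0, 0, 0, 0, 0, 0, 0, 0], [6, 0, 0, 8, 0, 7, 2, 2, 5, 0, 5, 2, 8, 0, 5, 5, 6, 6, 6, 8,
    6, 0, 0, 0, 6, 0, 3], [3, 0, 3, 6, 0, 7, 6, 6, 5, 3, 2, 1, 4, 0, 0, 7, 7, 7, 6, 8, 8, 0, 0, 0, 3, 0, 6],
    [0, 0, 0, 6, 0, 6, 5, 6, 3, 6, 6, 3, 3, 0, 6, 3, 4, 3, 3, 0, 3, 8, 0, 0, 3, 0, 6], [0, 0, 0, 7, 6, 5, 8, 8,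
    5, 5, 0, 6, 6, 0, 8, 6, 3, 3, 8, 4, 0, 0, 0, 8, 8, 0, 3], [0, 0, 3, 3, 3, 0, 8, 8, 4, 7, 3, 3, 5, 0, 4, 2,
    8, 8, 6, 5, 5, 0, 0, 1, 6, 0, 1], [0, 0, 0, 0, 0, 7, 0, 0, 1, 7, 3, 0, 0, 0, 2, 0, 0, 0, 1, 6, 0, 0, 0, 0,
    0, 0, 0], [0, 0, 0, 0, 0, 8, 0, 0, 7, 0, 2, 8, 0, 0, 1, 0, 0, 0, 5, 3, 0, 0, 0, 0, 0, 0, 0], [0, 0, 0, 0,
    0, 3, 1, 0, 6, 3, 3, 0, 0, 0, 6, 0, 8, 0, 3, 0, 0, 0, 0, 0, 0, 0, 0], [0, 0, 0, 0, 0, 5, 0, 0, 1, 5, 8, 0,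
    0, 0, 4, 0, 0, 0, 2, 3, 0, 0, 0, 0, 0, 0, 0], [0, 0, 0, 0, 0, 3, 0, 0, 2, 3, 3, 0, 0, 0, 6, 0, 0, 0, 3, 8,
    0, 0, 0, 0, 0, 0, 0], [0, 0, 0, 0, 0, 5, 0, 0, 1, 6, 8, 0, 0, 0, 4, 0, 0, 0, 6, 4, 0, 0, 0, 0, 0, 0, 0],
    [0, 0, 0, 6, 0, 3, 5, 6, 0, 0, 0, 0, 3, 0, 0, 3, 5, 3, 3, 0, 3, 0, 0, 0, 3, 0, 6], [0, 0, 0, 0, 0, 3, 0, 0,
    5, 3, 4, 0, 0, 0, 6, 0, 0, 0, 3, 2, 0, 0, 0, 0, 0, 0, 0], [0, 0, 0, 0, 0, 8, 0, 0, 7, 6, 2, 1, 0, 0, 1, 0,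
    0, 0, 6, 1, 0, 0, 0, 0, 0, 0, 0], [0, 0, 3, 0, 0, 6, 0, 0, 3, 0, 6, 3, 4, 0, 3, 7, 0, 0, 0, 0, 4, 0, 0, 0,
    0, 0, 0], [0, 0, 0, 0, 0, 5, 0, 0, 0, 0, 0, 0, 0, 0, 0, 0, 0, 0, 0, 0, 0, 0, 0, 0, 0, 0, 0], [0, 0, 0, 0,
    3, 0, 6, 6, 0, 3, 3, 0, 2, 0, 6, 8, 3, 3, 3, 3, 1, 0, 0, 3, 6, 0, 0]]⟩

/-- The residual element. -/
def res : List ℕ :=
  [1, 11, 11, 11, 11, 11, 11, 11]

/-- The multiples of the residual element. -/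
def mult : List ℕ :=
  [0, 0, 0, 2, 0, 0, 0, 6, 0, 3, 5, 0, 0, 0, 0, 0, 0, 0, 0, 0, 0, 0, 0, 0, 0, 3, 0, 6]

/-- The multiple of the residual element that vanishes. -/
def tor : List ℕ :=
  [7, 4, 0, 3, 6, 0, 6, 6, 6, 6, 3, 0, 3, 8, 3, 8, 6, 6, 6, 3, 2, 0, 0, 6, 3, 0, 0]

/-- The data. -/
def D : Pts.Data where
  C := C
  gc := [Elems.p3q0, Elems.p3q1, Elems.p3q2, Elems.p3q3, Elems.p3q4, Elems.p3q5, Elems.p3q6]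
  hc := [Elems.p3q7, Elems.p3q8]
  base := [0, 1, 2, 3, 4, 8, 14]
  orbs :=
    [(14, [14, 26, 54, 85, 91, 94, 110, 113, 150, 164, 191, 193, 194, 226, 242, 243, 247, 271, 281, 288, 295,
      300, 321, 325, 338, 339, 345, 352, 357, 362, 376, 377, 378, 379, 380, 381, 389, 393, 395, 396, 413, 414,
      425, 444, 447, 452, 457, 465, 466, 468, 475, 486, 487, 492, 501, 509, 511, 529, 542, 546, 548, 565, 566,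
      578, 587, 590, 591, 592, 597, 599, 601, 602, 621, 630, 635, 655, 658, 661, 670, 684, 692, 694, 695, 696,
      702, 709, 711, 712, 726, 765, 771, 778, 779, 780, 783, 787, 799, 804, 816, 817, 818, 819, 828, 830, 831,
      848, 851, 852, 857, 862, 872, 886, 890, 894, 902, 906, 913, 920, 921, 922, 932, 941, 942, 955, 961, 981,
      986, 990, 994, 1008, 1010, 1015, 1016, 1020, 1022, 1036, 1050, 1053, 1063, 1064, 1066, 1072, 1081, 1085,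
      1092, 1106, 1112, 1124, 1129, 1137, 1141, 1142, 1143, 1149, 1156, 1174, 1184, 1187, 1201, 1206, 1207,
      1209, 1234, 1235, 1244, 1245, 1248, 1257, 1267, 1289, 1293, 1300, 1306, 1312, 1314, 1318, 1325, 1327,
      1330, 1358, 1364, 1365, 1367, 1371, 1379, 1386, 1394, 1418, 1420, 1431, 1435, 1438, 1442, 1450, 1456,
      1457, 1461, 1471, 1479, 1487, 1489, 1490, 1491, 1502, 1507, 1520, 1524, 1525, 1541, 1543, 1548, 1560,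
      1566, 1574, 1579, 1590, 1594, 1595, 1596, 1610, 1614, 1617, 1619, 1625, 1633, 1637, 1642, 1652, 1671,
      1685, 1689, 1692, 1693, 1704, 1713, 1714, 1717, 1721, 1724, 1725, 1746, 1756, 1764]), (14, [14, 85, 150,
      194, 226, 295, 300, 325, 339, 345, 376, 378, 389, 393, 395, 414, 447, 452, 492, 501, 529, 542, 546, 548,
      566, 592, 602, 630, 658, 702, 709, 765, 783, 828, 831, 851, 862, 872, 886, 906, 921, 932, 941, 955, 986,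
      994, 1010, 1063, 1129, 1137, 1207, 1234, 1248, 1257, 1267, 1289, 1293, 1306, 1330, 1358, 1364, 1365,
      1386, 1418, 1431, 1438, 1457, 1471, 1487, 1490, 1520, 1543, 1566, 1579, 1614, 1625, 1633, 1717, 1724,
      1725, 1764]), (0, [0, 1, 8, 13, 15, 29, 31, 32, 33, 39, 50, 59, 67, 71, 80, 89, 92, 102, 107, 154, 159,
      210, 214, 232, 260, 471, 569]), (0, [0, 8, 33, 59, 89, 154, 214, 232, 471]), (0, [0, 154, 471]), (14,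
      [14, 831, 906]), (0, [0])]

theorem gc : Pts.RealsL φ D.gc := (Pts.RealsL.cons φ real_p3q0 (Pts.RealsL.cons φ real_p3q1 (Pts.RealsL.cons φ real_p3q2 (Pts.RealsL.cons φ real_p3q3 (Pts.RealsL.cons φ real_p3q4 (Pts.RealsL.cons φ real_p3q5 (Pts.RealsL.cons φ real_p3q6 (Pts.RealsL.nil φ))))))))

theorem hc : Pts.RealsL φ D.hc := (Pts.RealsL.cons φ real_p3q7 (Pts.RealsL.cons φ real_p3q8 (Pts.RealsL.nil φ)))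

theorem cert : checkM C (vecOps 9) 9 res mult tor 3 = true := by decide +kernel

theorem shape : D.checkShape = true := by decide +kernel

theorem rules : D.checkRules = true := by decide +kernel

theorem fus : D.checkFus = true := by decide +kernel

theorem news : D.checkNew 1782 = true := by decide +kernel

end Cfsg.Agent.Lib.SuzMult.P3
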