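import Cfsg.Agent.Lib.PcMult.Pts.Check
import Cfsg.Agent.Lib.PcMult.Bounded
import Cfsg.Agent.Lib.SuzMult.Steps

/-!
Certificate for the prime 5.
-/

set_option autoImplicit false
set_option maxRecDepth 100000

namespace Cfsg.Agent.Lib.SuzMult.P5

open Cfsg.Agent.InvChar.Coset Cfsg.Agent.Lib.PcMult

/-- The presentation. -/
def R : Pres :=
  ⟨5, 2, [[0, 0], [0, 0]], [[[], [0, 1]], [[], []]]⟩

/-- Overlaps. -/
def ovl : List (List ℕ × List ℕ × List ℕ) :=
  []

/-- Conjugations. -/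
def fusion : List Fus :=
  [([([0, 1], [0])], [([0, 0, 0, 0, 0], [])]), ([([0], [0, 0, 0, 1, 1, 1, 1]), ([1], [0, 0, 0, 1])], [([0, 0,
    0, 0, 0], [])]), ([([0], [0]), ([1], [0, 0, 1, 1, 1, 1])], [([1, 0], [0, 1])])]

/-- The certificate. -/
def C : Cert :=
  ⟨R, ovl, fusion, [[], []], [[2, 3, 0], [0, 0, 2], [4, 0, 0]]⟩

/-- The data. -/
def D : Pts.Data where
  C := C
  gc := [Elems.p5q0, Elems.p5q1]
  hc := [Elems.p5q2, Elems.p5q3, Elems.p5q4]
  base := [0, 1, 2, 3, 4, 8, 14]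
  orbs :=
    [(35, [35]), (1, [1])]

theorem gc : Pts.RealsL φ D.gc := (Pts.RealsL.cons φ real_p5q0 (Pts.RealsL.cons φ real_p5q1 (Pts.RealsL.nil φ)))

theorem hc : Pts.RealsL φ D.hc := (Pts.RealsL.cons φ real_p5q2 (Pts.RealsL.cons φ real_p5q3 (Pts.RealsL.cons φ real_p5q4 (Pts.RealsL.nil φ))))

theorem cert : C.check (vecOps 5) = true := by decide +kernel

theorem shape : D.checkShape = true := by decide +kernel

theorem rules : D.checkRules = true := by decide +kernel

theorem fus : D.checkFus = true := by decide +kernel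

theorem news : D.checkNew 1782 = true := by decide +kernel

end Cfsg.Agent.Lib.SuzMult.P5
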