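import Cfsg.Agent.Lib.SuzMult.Cover
import Cfsg.Agent.Lib.SuzMult.Data2
import Cfsg.Agent.Lib.SuzMult.Data3
import Cfsg.Agent.Lib.SuzMult.Data5
import Cfsg.Agent.Lib.Transfer.SplitLifts

/-!
The multiplier of the sporadic Suzuki group has order six.
-/

set_option autoImplicit false

namespace Cfsg.Agent.Lib.SuzMult

open Cfsg Cfsg.Agent.InvChar.Coset Cfsg.Agent.Lib.PcMult Cfsg.Agent.Transfer.SplitLifts

theorem finite_Suz : Finite Spor.Suz :=
  Nat.finite_of_card_ne_zero (by rw [Suz.simple_and_card.2]; norm_num)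

theorem factor {p k r : ℕ} (hp : p.Prime) (h : 448345497600 = p ^ k * r) (hr : ¬ p ∣ r) :
    (Nat.card Spor.Suz).factorization p = k := by
  rw [Suz.simple_and_card.2, h,
    Nat.factorization_mul (pow_ne_zero _ hp.ne_zero) (show r ≠ 0 from fun e => hr (by simp [e])),
    Finsupp.coe_add, Pi.add_apply, hp.factorization_pow, Finsupp.single_eq_same,
    Nat.factorization_eq_zero_of_not_dvd hr, add_zero]

theorem factor_two : (Nat.card Spor.Suz).factorization 2 = 13 :=
  factor Nat.prime_two (r := 54729675) (by norm_num) (by norm_num)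

theorem factor_three : (Nat.card Spor.Suz).factorization 3 = 7 :=
  factor Nat.prime_three (r := 205004800) (by norm_num) (by norm_num)

theorem factor_five : (Nat.card Spor.Suz).factorization 5 = 2 :=
  factor Nat.prime_five (r := 17933819904) (by norm_num) (by norm_num)

theorem prime_sq_dvd {p : ℕ} (hp : p.Prime) (h : p ^ 2 ∣ Nat.card Spor.Suz) : p = 2 ∨ p = 3 ∨ p = 5 := by
  have hd : p ∣ 2 ^ 13 * 3 ^ 7 * 5 ^ 2 * 7 * 11 * 13 :=
    (dvd_pow_self p two_ne_zero).trans (by rw [Suz.simple_and_card.2] at h; norm_num; exact h)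
  rw [Suz.simple_and_card.2] at h
  have e : ∀ q k : ℕ, q.Prime → p ∣ q ^ k → p = q := fun q k hq hh =>
    (Nat.prime_dvd_prime_iff_eq hp hq).1 (hp.dvd_of_dvd_pow hh)
  have big : ∀ q : ℕ, q.Prime → p ∣ q → p = q := fun q hq hh => (Nat.prime_dvd_prime_iff_eq hp hq).1 hh
  rcases (Nat.Prime.dvd_mul hp).1 hd with hd | hd
  · rcases (Nat.Prime.dvd_mul hp).1 hd with hd | hd
    · rcases (Nat.Prime.dvd_mul hp).1 hd with hd | hd
      · rcases (Nat.Prime.dvd_mul hp).1 hd with hd | hd
        · rcases (Nat.Prime.dvd_mul hp).1 hd with hd | hd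
          · exact Or.inl (e 2 13 Nat.prime_two hd)
          · exact Or.inr (Or.inl (e 3 7 Nat.prime_three hd))
        · exact Or.inr (Or.inr (e 5 2 Nat.prime_five hd))
      · obtain rfl := big 7 (by norm_num) hd
        norm_num at h
    · obtain rfl := big 11 (by norm_num) hd
      norm_num at h
  · obtain rfl := big 13 (by norm_num) hd
    norm_num at h

variable {Γ : Type} [Group Γ] [Finite Γ] (σ : Γ →* Spor.Suz) (hc : σ.ker ≤ Subgroup.center Γ)
  (hsur : Function.Surjective σ) (hd : σ.ker ≤ commutator Γ)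

include hc hsur hd

theorem not_four_dvd : ¬ 2 ^ 2 ∣ Nat.card σ.ker := by
  haveI := finite_Suz
  exact not_pow_dvd_ker (G := Spor.Suz) (p := 2) (k := 2) (d := 2) (by norm_num)
    (fun Γ' _ _ σ' hc' hs' he' P => bounded (C := P2.C) (O := vecOps 4) (m := 4) (d := 2) (p := 2)
      (by norm_num) (by norm_num) Nat.prime_two hc' hs' he' (fun K _ hK τ => ⟨_, vecOps_valid hK τ⟩)
      P2.cert (P2.D.real φ (fun x y h => sep h) P2.gc P2.hc P2.shape P2.rules P2.fus P2.news)
      factor_two rfl P) σ hc hsur hd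

theorem not_nine_dvd : ¬ 3 ^ 2 ∣ Nat.card σ.ker := by
  haveI := finite_Suz
  exact not_pow_dvd_ker (G := Spor.Suz) (p := 3) (k := 2) (d := 3) (by norm_num)
    (fun Γ' _ _ σ' hc' hs' he' P => bounded (C := P3.C) (O := vecOps 9) (m := 9) (d := 3) (p := 3)
      (by norm_num) (by norm_num) Nat.prime_three hc' hs' he' (fun K _ hK τ => ⟨_, vecOps_valid hK τ⟩)
      P3.cert (P3.D.real φ (fun x y h => sep h) P3.gc P3.hc P3.shape P3.rules P3.fus P3.news)
      factor_three rfl P) σ hc hsur hd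

theorem prime_le : ∀ p : ℕ, p.Prime → p ∣ Nat.card σ.ker → p = 2 ∨ p = 3 := by
  haveI := finite_Suz
  intro p hp hpd
  haveI := Fact.mk hp
  by_cases hpG : p ^ 2 ∣ Nat.card Spor.Suz
  swap
  · exact (Suzuki.Multiplier.no_prime_in_kernel σ hc hd default (cyclic_criterion hc hsur hpG default) hpd).elim
  rcases prime_sq_dvd hp hpG with rfl | rfl | rfl
  · exact Or.inl rfl
  · exact Or.inr rfl
  · exfalso
    refine not_pow_dvd_ker (G := Spor.Suz) (p := 5) (k := 1) (d := 1) (by norm_num)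
      (fun Γ' _ _ σ' hc' hs' he' P => ?_) σ hc hsur hd (by rwa [pow_one])
    rw [Pts.Data.split_pts φ (D := P5.D) (p := 5) rfl (fun K _ h τ => ⟨_, vecOps_valid h τ⟩) P5.cert
      (fun x y h => sep h) P5.gc P5.hc P5.shape P5.rules P5.fus P5.news
      factor_five Γ' σ' hc' hs'
      (fun z hz => by simpa using he' z hz) P, Subgroup.card_bot]

theorem card_dvd_six : Nat.card σ.ker ∣ 6 := by
  have h2 := not_four_dvd σ hc hsur hd
  have h3 := not_nine_dvd σ hc hsur hd
  have hp := prime_le σ hc hsur hd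
  rw [Nat.dvd_iff_prime_pow_dvd_dvd]
  intro p k hp' hpk
  rcases k with _ | k
  · simp
  rcases hp p hp' ((dvd_pow_self p (by omega)).trans hpk) with rfl | rfl
  · rcases k with _ | k
    · norm_num
    · exact absurd ((pow_dvd_pow 2 (by omega)).trans hpk) h2
  · rcases k with _ | k
    · norm_num
    · exact absurd ((pow_dvd_pow 3 (by omega)).trans hpk) h3

omit hc hsur hd

theorem mult_six : Cfsg.HasCyclicSchurMultiplier Spor.Suz 6 := by
  classical
  refine ⟨exists_cover, ?_⟩
  intro Γ _ _ σ hs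
  obtain ⟨hsur, hc, hd⟩ := hs
  have hcard := card_dvd_six σ hc hsur hd
  letI : CommGroup σ.ker :=
    { (σ.ker.toGroup : Group σ.ker) with
      mul_comm := fun a b => Subtype.ext ((Subgroup.mem_center_iff.1 (hc b.2)) a.1) }
  haveI : IsCyclic σ.ker := by
    rcases (show Nat.card σ.ker = 1 ∨ Nat.card σ.ker = 2 ∨ Nat.card σ.ker = 3 ∨ Nat.card σ.ker = 6 by
      have := Nat.le_of_dvd (by norm_num) hcard
      interval_cases (Nat.card σ.ker) <;> omega) with h | h | h | h
    · haveI := (Nat.card_eq_one_iff_unique.1 h).1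
      exact isCyclic_of_subsingleton
    · exact isCyclic_of_prime_card (p := 2) h
    · exact isCyclic_of_prime_card (p := 3) h
    · haveI : Fact (Nat.Prime 2) := ⟨Nat.prime_two⟩
      haveI : Fact (Nat.Prime 3) := ⟨Nat.prime_three⟩
      obtain ⟨a, ha⟩ := exists_prime_orderOf_dvd_card' (G := σ.ker) 2 (by rw [h]; norm_num)
      obtain ⟨b, hb⟩ := exists_prime_orderOf_dvd_card' (G := σ.ker) 3 (by rw [h]; norm_num)
      exact isCyclic_of_orderOf_eq_card (a * b)
        (by rw [(Commute.all a b).orderOf_mul_eq_mul_orderOf_of_coprime (by rw [ha, hb]; norm_num), ha, hb, h])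
  let e := zmodCyclicMulEquiv (G := σ.ker) inferInstance
  let f : Multiplicative (ZMod 6) →* Multiplicative (ZMod (Nat.card σ.ker)) :=
    (ZMod.castHom hcard (ZMod (Nat.card σ.ker))).toAddMonoidHom.toMultiplicative
  exact ⟨e.toMonoidHom.comp f, e.surjective.comp (ZMod.castHom_surjective hcard)⟩

end Cfsg.Agent.Lib.SuzMult
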